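import Mathlib
import Cfsg.Agent.H21.Fus
import Cfsg.Agent.H4.Focal

/-! Control of fusion and transfer by families of subgroups attached to a Sylow subgroup. -/

set_option autoImplicit false

namespace Cfsg.Agent.H21

open Subgroup Cfsg.Agent.H22 Cfsg.Agent.H18
open scoped Pointwise commutatorElement

variable {G : Type*} [Group G]

/-- The steps allowed by the admissible subgroups. -/
def FStep (Adm : Subgroup G → Subgroup G → Prop) (H T : Subgroup G) (x : G) : Prop :=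
  ∃ M, Adm T M ∧ x ∈ H ⊓ M

/-- Fusion in `T` by elements of `H` is generated by the admissible subgroups. -/
def FusAt (Adm : Subgroup G → Subgroup G → Prop) (H T : Subgroup G) : Prop :=
  ∀ (A : Set G) (h : G), h ∈ H → A ⊆ T → Into A h T → Reach (FStep Adm H T) T A h

/-- The part of `T ⊓ H'` coming from the admissible subgroups. -/
def TrD (Adm : Subgroup G → Subgroup G → Prop) (H T : Subgroup G) : Subgroup G :=
  ⨆ M, ⨆ (_ : Adm T M), T ⊓ ⁅H ⊓ M, H ⊓ M⁆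

/-- Transfer in `H` is controlled by the admissible subgroups. -/
def TrAt (Adm : Subgroup G → Subgroup G → Prop) (H T : Subgroup G) : Prop :=
  T ⊓ ⁅H, H⁆ ≤ TrD Adm H T

/-- Equivariance of the admissible subgroups. -/
def Equivar (p : ℕ) (Adm : Subgroup G → Subgroup G → Prop) : Prop :=
  ∀ (T M : Subgroup G) (g : G), IsPGroup p T → Adm T M → Adm (cj g T) (cj g M)

/-- The normalizers of the values of a set of functors. -/
def WAdm (𝓦 : Set (Subgroup G → Subgroup G)) (T M : Subgroup G) : Prop :=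
  ∃ W ∈ 𝓦, M = N[W T]

variable {Adm : Subgroup G → Subgroup G → Prop} {p : ℕ}

theorem FStep.inv {H T : Subgroup G} (x : G) (h : FStep Adm H T x) : FStep Adm H T x⁻¹ := by
  obtain ⟨M, h1, h2⟩ := h
  exact ⟨M, h1, inv_mem h2⟩

theorem FStep.mono {H H' T : Subgroup G} (hH : H ≤ H') (x : G) (h : FStep Adm H T x) :
    FStep Adm H' T x := by
  obtain ⟨M, h1, h2⟩ := h
  exact ⟨M, h1, hH h2.1, h2.2⟩

theorem le_TrD {H T M : Subgroup G} (h : Adm T M) : T ⊓ ⁅H ⊓ M, H ⊓ M⁆ ≤ TrD Adm H T :=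
  le_iSup₂_of_le (f := fun M (_ : Adm T M) => T ⊓ ⁅H ⊓ M, H ⊓ M⁆) M h le_rfl

theorem TrD_le_iff {H T D : Subgroup G} :
    TrD Adm H T ≤ D ↔ ∀ M, Adm T M → T ⊓ ⁅H ⊓ M, H ⊓ M⁆ ≤ D := iSup₂_le_iff

theorem TrD_le (H T : Subgroup G) : TrD Adm H T ≤ T ⊓ ⁅H, H⁆ :=
  TrD_le_iff.2 fun _ _ => inf_le_inf_left _ (commutator_mono inf_le_left inf_le_left)

theorem TrD_mono {H H' : Subgroup G} (h : H ≤ H') (T : Subgroup G) : TrD Adm H T ≤ TrD Adm H' T :=
  TrD_le_iff.2 fun _ hM => le_trans (inf_le_inf_left _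
    (commutator_mono (inf_le_inf_right _ h) (inf_le_inf_right _ h))) (le_TrD hM)

theorem trAt_iff_eq {H T : Subgroup G} : TrAt Adm H T ↔ T ⊓ ⁅H, H⁆ = TrD Adm H T :=
  ⟨fun h => le_antisymm h (TrD_le _ _), fun h => h.le⟩

theorem equivar_WAdm {𝓦 : Set (Subgroup G → Subgroup G)} (h : ∀ W ∈ 𝓦, IsConjugacyFunctor p W) :
    Equivar p (WAdm 𝓦) := by
  rintro T _ g hT ⟨W, hW, rfl⟩
  exact ⟨W, hW, by rw [cj_N, ← cj_def g T, (h W hW T hT).2.2 g, cj_def]⟩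

theorem cj_TrD_le (hA : Equivar p Adm) {H T : Subgroup G} (hT : IsPGroup p T) (y : G) :
    cj y (TrD Adm H T) ≤ TrD Adm (cj y H) (cj y T) := by
  rw [cj_le_iff, TrD_le_iff]
  intro M hM
  rw [← cj_le_iff, cj_inf, cj_commutator, cj_inf]
  exact le_TrD (hA _ _ y hT hM)

theorem le_N_TrD [Finite G] (hA : Equivar p Adm) {H T : Subgroup G} (hT : IsPGroup p T) :
    N[H] ⊓ N[T] ≤ N[TrD Adm H T] := fun y hy => by
  have := cj_TrD_le (H := H) hA hT y
  rw [cj_eq_of_mem_N hy.1, cj_eq_of_mem_N hy.2] at this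
  exact mem_N_of_cj_le this

theorem FusAt.conj (hA : Equivar p Adm) {H T : Subgroup G} (hT : IsPGroup p T) (h : FusAt Adm H T)
    (y : G) : FusAt Adm (cj y H) (cj y T) := by
  intro A g hg hAT hI
  have h1 : cs y⁻¹ A ⊆ T := by
    have := cs_mono y⁻¹ hAT
    rwa [cs_coe, cj_inv_cj] at this
  have h2 : Into (cs y⁻¹ A) (y⁻¹ * g * y) T := by
    rw [← into_mul]
    intro a ha
    have := mem_cj.1 (hI a ha)
    convert this using 1; group
  have := (h _ _ (mem_cj.1 hg) h1 h2).conj (M' := FStep Adm (cj y H) (cj y T)) y (by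
    rintro x ⟨M, hM, hx⟩
    exact ⟨_, hA _ _ y hT hM, conj_mem_cj hx.1, conj_mem_cj hx.2⟩)
  rw [cs_cs_inv] at this
  convert this using 1; group

theorem TrAt.conj (hA : Equivar p Adm) {H T : Subgroup G} (hT : IsPGroup p T) (h : TrAt Adm H T)
    (y : G) : TrAt Adm (cj y H) (cj y T) := by
  unfold TrAt
  rw [← cj_commutator, ← cj_inf]
  exact (cj_mono y h).trans (cj_TrD_le hA hT y)

section
variable [Finite G] [Fact p.Prime]

theorem FusAt.of_syl (hA : Equivar p Adm) {H T T' : Subgroup G} (hT : SylIn p T H)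
    (hT' : SylIn p T' H) (h : FusAt Adm H T) : FusAt Adm H T' := by
  obtain ⟨g, hg, rfl⟩ := syl_exists_cj_eq hT hT'
  have := h.conj hA hT.isP g
  rwa [cj_eq_of_mem hg] at this

theorem TrAt.of_syl (hA : Equivar p Adm) {H T T' : Subgroup G} (hT : SylIn p T H)
    (hT' : SylIn p T' H) (h : TrAt Adm H T) : TrAt Adm H T' := by
  obtain ⟨g, hg, rfl⟩ := syl_exists_cj_eq hT hT'
  have := h.conj hA hT.isP g
  rwa [cj_eq_of_mem hg] at this

theorem exists_syl_iff {H : Subgroup G} {P : Subgroup G → Prop} :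
    (∃ T, T ≤ H ∧ IsPGroup p T ∧ ¬ p ∣ T.relIndex H ∧ P T) ↔ ∃ T, SylIn p T H ∧ P T :=
  ⟨fun ⟨T, h1, h2, h3, h4⟩ => ⟨T, sylIn_of_not_dvd_relIndex h1 h2 h3, h4⟩,
    fun ⟨T, h1, h2⟩ => ⟨T, h1.le, h1.isP, h1.not_dvd_relIndex, h2⟩⟩

theorem sylIn_inf_N_iff {S U : Subgroup G} (hS : IsPGroup p S) :
    SylIn p (S ⊓ N[U]) N[U] ↔ ¬ p ∣ (S ⊓ N[U]).relIndex N[U] :=
  ⟨fun h => h.not_dvd_relIndex, sylIn_of_not_dvd_relIndex inf_le_right hS.to_inf_left⟩

theorem family_fusion_iff_exists {𝓦 : Set (Subgroup G → Subgroup G)} {H : Subgroup G} :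
    FamilyControlsStrongFusionIn p 𝓦 H ↔ ∃ T, SylIn p T H ∧ FusAt (WAdm 𝓦) H T := by
  rw [← exists_syl_iff]
  refine exists_congr fun T => and_congr_right fun _ => and_congr_right fun _ =>
    and_congr_right fun _ => forall₂_congr fun A h => forall₂_congr fun _ _ => ?_
  rw [into_iff_image, reach_iff_fin]
  refine forall_congr' fun _ => exists₂_congr fun n c => and_congr_right fun _ =>
    and_congr_left fun _ => forall_congr' fun i => ?_
  exact ⟨fun ⟨W, hW, h⟩ => ⟨_, ⟨W, hW, rfl⟩, h⟩, by rintro ⟨_, ⟨W, hW, rfl⟩, h⟩; exact ⟨W, hW, h⟩⟩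

theorem family_fusion_iff {𝓦 : Set (Subgroup G → Subgroup G)}
    (h𝓦 : ∀ W ∈ 𝓦, IsConjugacyFunctor p W) {H T : Subgroup G} (hT : SylIn p T H) :
    FamilyControlsStrongFusionIn p 𝓦 H ↔ FusAt (WAdm 𝓦) H T := by
  rw [family_fusion_iff_exists]
  exact ⟨fun ⟨_, h1, h2⟩ => h2.of_syl (equivar_WAdm h𝓦) h1 hT, fun h => ⟨T, hT, h⟩⟩

omit [Finite G] [Fact p.Prime] in
theorem TrD_WAdm (𝓦 : Set (Subgroup G → Subgroup G)) (H T : Subgroup G) :
    TrD (WAdm 𝓦) H T = ⨆ W ∈ 𝓦, T ⊓ ⁅H ⊓ N[W T], H ⊓ N[W T]⁆ := by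
  refine le_antisymm (TrD_le_iff.2 ?_) (iSup₂_le fun W hW => le_TrD ⟨W, hW, rfl⟩)
  rintro _ ⟨W, hW, rfl⟩
  exact le_iSup₂_of_le (f := fun W (_ : W ∈ 𝓦) => T ⊓ ⁅H ⊓ N[W T], H ⊓ N[W T]⁆) W hW le_rfl

theorem family_transfer_iff_exists {𝓦 : Set (Subgroup G → Subgroup G)} {H : Subgroup G} :
    FamilyControlsTransferIn p 𝓦 H ↔ ∃ T, SylIn p T H ∧ TrAt (WAdm 𝓦) H T := by
  rw [← exists_syl_iff]
  refine exists_congr fun T => and_congr_right fun _ => and_congr_right fun _ =>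
    and_congr_right fun _ => ?_
  rw [trAt_iff_eq, TrD_WAdm]

theorem family_transfer_iff {𝓦 : Set (Subgroup G → Subgroup G)}
    (h𝓦 : ∀ W ∈ 𝓦, IsConjugacyFunctor p W) {H T : Subgroup G} (hT : SylIn p T H) :
    FamilyControlsTransferIn p 𝓦 H ↔ TrAt (WAdm 𝓦) H T := by
  rw [family_transfer_iff_exists]
  exact ⟨fun ⟨_, h1, h2⟩ => h2.of_syl (equivar_WAdm h𝓦) h1 hT, fun h => ⟨T, hT, h⟩⟩

omit [Finite G] [Fact p.Prime] in
theorem fusAt_single {W : Subgroup G → Subgroup G} {H T : Subgroup G} :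
    FusAt (WAdm {W}) H T ↔ ∀ (A : Set G) (h : G), h ∈ H → A ⊆ T → Into A h T →
      ∃ x ∈ H ⊓ N[W T], Agree A x h := by
  refine forall₂_congr fun A h => forall₃_congr fun _ hA hI => ⟨fun r => r.exists_agree ?_, ?_⟩
  · rintro x ⟨_, ⟨W', hW', rfl⟩, hx⟩
    rw [Set.mem_singleton_iff.1 hW'] at hx
    exact hx
  · rintro ⟨x, hx, e⟩
    exact (Reach.single hA ⟨_, ⟨W, rfl, rfl⟩, hx⟩ (e.symm.into hI)).congr e

theorem fusion_iff_family {W : Subgroup G → Subgroup G} {H : Subgroup G} :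
    ControlsStrongFusionIn p W H ↔ FamilyControlsStrongFusionIn p {W} H := by
  rw [family_fusion_iff_exists, ← exists_syl_iff]
  refine exists_congr fun T => and_congr_right fun _ => and_congr_right fun _ =>
    and_congr_right fun _ => ?_
  rw [fusAt_single]
  refine forall₂_congr fun A h => forall₂_congr fun _ _ => ?_
  rw [into_iff_image]; rfl

theorem fusion_iff {W : Subgroup G → Subgroup G} (hW : IsConjugacyFunctor p W) {H T : Subgroup G}
    (hT : SylIn p T H) : ControlsStrongFusionIn p W H ↔ FusAt (WAdm {W}) H T := by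
  rw [fusion_iff_family, family_fusion_iff (by simpa using hW) hT]

omit [Finite G] [Fact p.Prime] in
theorem transfer_iff_family {W : Subgroup G → Subgroup G} {H : Subgroup G} :
    ControlsTransferIn p W H ↔ FamilyControlsTransferIn p {W} H := by
  refine exists_congr fun T => and_congr_right fun _ => and_congr_right fun _ =>
    and_congr_right fun _ => ?_
  simp

omit [Finite G] [Fact p.Prime] in
theorem TrD_single (W : Subgroup G → Subgroup G) (H T : Subgroup G) :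
    TrD (WAdm {W}) H T = T ⊓ ⁅H ⊓ N[W T], H ⊓ N[W T]⁆ := by
  rw [TrD_WAdm]; simp

theorem transfer_iff {W : Subgroup G → Subgroup G} (hW : IsConjugacyFunctor p W) {H T : Subgroup G}
    (hT : SylIn p T H) : ControlsTransferIn p W H ↔ TrAt (WAdm {W}) H T := by
  rw [transfer_iff_family, family_transfer_iff (by simpa using hW) hT]

/-- The focal subgroup theorem in ambient form. -/
theorem inf_comm_le_of_fusion {H T D : Subgroup G} (hT : SylIn p T H)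
    (h : ∀ a ∈ T, ∀ g ∈ H, g * a * g⁻¹ ∈ T → g * a * g⁻¹ * a⁻¹ ∈ D) : T ⊓ ⁅H, H⁆ ≤ D := by
  obtain ⟨P, hP⟩ := hT.exists_sylow
  have key := Subgroup.commutator_inf_eq_focalSubgroup P
  have e : T ⊓ ⁅H, H⁆ = (_root_.commutator H ⊓ (P : Subgroup H)).map H.subtype := by
    rw [map_inf _ _ _ H.subtype_injective, hP, subgroupOf_map_subtype, inf_eq_left.2 hT.le,
      _root_.commutator_def, map_commutator, map_subtype_top, inf_comm]
  rw [e, key, map_le_iff_le_comap, focalSubgroup, closure_le]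
  rintro _ ⟨hc, x, hx, u, rfl⟩
  rw [hP] at hc hx
  have hx' : (x : G) ∈ T := hx
  have hc' : ((⁅x, u⁆ : H) : G) ∈ T := hc
  have e1 : ((⁅x, u⁆ : H) : G) = ((u : G) * x * (u : G)⁻¹ * (x : G)⁻¹)⁻¹ := by
    simp [commutatorElement_def, mul_assoc]
  show ((⁅x, u⁆ : H) : G) ∈ D
  rw [e1] at hc' ⊢
  refine inv_mem (h x hx' u u.2 ?_)
  have := mul_mem (inv_mem hc') hx'
  simpa using this

/-- Local-to-global control of fusion. -/
theorem fusAt_of_local {S : Subgroup G} (hS : SylIn p S ⊤) (E : Subgroup G → Prop)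
    (hloc : ∀ U, E U → FusAt Adm N[U] (S ⊓ N[U]))
    (e_up : ∀ U M, E U → S ⊓ N[U] ≠ S → Adm (S ⊓ N[U]) M → (∃ M', Adm S M' ∧ M ≤ M') ∨
      ∃ V y, M ≤ N[V] ∧ S ⊓ N[U] < S ⊓ N[V] ∧ E (cj y V) ∧ cj y (S ⊓ N[V]) ≤ S)
    (e_cover : ∀ B, B ≤ S → B ≠ ⊥ → S ⊓ C[B] ≤ B → ∃ y, E (cj y B) ∧ cj y (S ⊓ N[B]) ≤ S) :
    FusAt Adm ⊤ S := by
  have key := local_to_global hS (fun A g => A ≤ S → cj g A ≤ S → Reach (FStep Adm ⊤ S) S A g)
    (fun Q H => ∀ (A : Set G) h, h ∈ H → A ⊆ Q → Into A h Q → Reach (FStep Adm ⊤ S) S A h)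
    Adm E ?_ ?_ ?_ ?_ ?_ ?_ ?_ ?_ ?_ ?_ e_up e_cover
  · intro A g _ hA hI
    have h1 : closure A ≤ S := (closure_le _).2 hA
    have h2 := into_iff_cj.1 hI.closure
    exact (key _ g h1 h2 h1 h2).mono subset_closure
  · intro A g h h1 h2 h3 r1 r2 _ _
    refine (r1 h1 h2).trans ?_
    rw [cs_coe]
    exact r2 h2 (by rwa [← cj_mul])
  · intro A g h1 h2 r _ _
    rw [← cs_coe]
    exact (r h1 h2).inv FStep.inv
  · intro A B g h1 h2 h3 r _ _
    exact (r h2 h3).mono h1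
  · intro A g h e r h1 h2
    exact (r h1 (into_iff_cj.1 (e.symm.into (into_iff_cj.2 h2)))).congr e
  · intro g h1 _
    exact Reach.of_C h1 (by simp [mem_centralizer_iff])
  · intro B hB hL x hx _ _
    refine hL _ x hx (le_inf hB le_normalizer) (into_iff_cj.2 ?_)
    rw [cj_eq_of_mem_N hx]; exact le_inf hB le_normalizer
  · intro Q Q' H H' h1 h2 hL A h hh hA hI
    exact hL A h (h2 hh) (hA.trans h1) (hI.mono subset_rfl h1)
  · intro Q H y h1 h2 r hL A h hh hA hI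
    have r' := r h1 h2
    have s1 := r'.mono hA
    have s2 := hL (cs y A) (y * h * y⁻¹) (conj_mem_cj hh) (cs_coe y Q ▸ cs_mono y hA) (by
      rw [← into_mul]
      intro a ha
      have := conj_mem_cj (g := y) (hI a ha)
      convert this using 1; group)
    have s3 := (r'.mono (into_iff_cs.1 hI)).inv FStep.inv
    have s4 := (s1.trans s2).trans (h := y⁻¹) (by
      rw [← cs_mul] at s3
      convert s3 using 2; group)
    convert s4 using 1; group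
  · intro M hM A h hh hA hI
    exact Reach.single hA ⟨M, hM, trivial, hh⟩ hI
  · intro U hU hM A h hh hA hI
    refine (hloc U hU A h hh hA hI).subst inf_le_left ?_
    rintro x ⟨M, h1, h2⟩ c h3 h4
    exact hM M h1 _ x h2 (into_iff_cs.1 h3) (into_mul.1 h4)

/-- Local-to-global control of transfer. -/
theorem trAt_of_local {S : Subgroup G} (hS : SylIn p S ⊤) (E : Subgroup G → Prop)
    (hloc : ∀ U, E U → TrAt Adm N[U] (S ⊓ N[U]))
    (e_up : ∀ U M, E U → S ⊓ N[U] ≠ S → Adm (S ⊓ N[U]) M → (∃ M', Adm S M' ∧ M ≤ M') ∨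
      ∃ V y, M ≤ N[V] ∧ S ⊓ N[U] < S ⊓ N[V] ∧ E (cj y V) ∧ cj y (S ⊓ N[V]) ≤ S)
    (e_cover : ∀ B, B ≤ S → B ≠ ⊥ → S ⊓ C[B] ≤ B → ∃ y, E (cj y B) ∧ cj y (S ⊓ N[B]) ≤ S) :
    TrAt Adm ⊤ S := by
  have key := local_to_global hS (fun A g => ∀ a ∈ A, g * a * g⁻¹ * a⁻¹ ∈ TrD Adm ⊤ S)
    (fun Q H => Q ⊓ ⁅H, H⁆ ≤ TrD Adm ⊤ S)
    Adm E ?_ ?_ ?_ ?_ ?_ ?_ ?_ ?_ ?_ ?_ e_up e_cover
  · refine inf_comm_le_of_fusion hS fun a ha g _ hg => ?_
    refine key (zpowers a) g (zpowers_le.2 ha) ?_ a (mem_zpowers a)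
    rw [cj_zpowers]; exact zpowers_le.2 hg
  · intro A g h _ _ _ r1 r2 a ha
    have := mul_mem (r2 _ (conj_mem_cj ha)) (r1 a ha)
    convert this using 1; group
  · rintro A g _ _ r _ ⟨a, ha, rfl⟩
    have := inv_mem (r a ha)
    convert this using 1
    simp [mul_assoc]
  · intro A B g h1 _ _ r a ha
    exact r a (h1 ha)
  · intro A g h e r a ha
    rw [← e a ha]; exact r a ha
  · intro g a ha
    rw [mem_bot.1 ha]; simp
  · intro B hB hL x hx a ha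
    refine hL ⟨⟨hB ?_, le_normalizer ?_⟩, ?_⟩
    · exact mul_mem (conj_mem_of_N hx ha) (inv_mem ha)
    · exact mul_mem (conj_mem_of_N hx ha) (inv_mem ha)
    · exact commutator_mem_commutator hx (le_normalizer ha)
  · intro Q Q' H H' h1 h2 hL
    exact (inf_le_inf h1 (commutator_mono h2 h2)).trans hL
  · intro Q H y _ _ r hL a ha
    have h1 : y * a * y⁻¹ ∈ TrD Adm ⊤ S := by
      refine hL ?_
      rw [← cj_commutator, ← cj_inf]
      exact conj_mem_cj ha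
    have := mul_mem (inv_mem (r a ha.1)) h1
    convert this using 1; group
  · intro M hM
    simpa using le_TrD (H := ⊤) hM
  · intro U hU hM
    exact (hloc U hU).trans (TrD_le_iff.2 hM)

/-! ### Well-placed subgroups -/

omit [Finite G] [Fact p.Prime] in
theorem functorTower_succ (W : Subgroup G → Subgroup G) (S T : Subgroup G) (i : ℕ) :
    functorTower W S T (i + 1) = functorTower W S (W (S ⊓ N[T])) i := by
  induction i with
  | zero => rfl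
  | succ i ih => rw [functorTower, ih]; rfl

theorem wellPlaced_iff {W : Subgroup G → Subgroup G} {S T : Subgroup G} (hS : IsPGroup p S) :
    IsWellPlaced p W S T ↔ T ≤ S ∧ ∀ i, SylIn p (S ⊓ N[functorTower W S T i]) N[functorTower W S T i] := by
  simp only [sylIn_inf_N_iff hS]; rfl

theorem wp_syl {W : Subgroup G → Subgroup G} {S T : Subgroup G} (hS : IsPGroup p S)
    (h : IsWellPlaced p W S T) : SylIn p (S ⊓ N[T]) N[T] := ((wellPlaced_iff hS).1 h).2 0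

theorem wp_next {W : Subgroup G → Subgroup G} (hW : IsConjugacyFunctor p W) {S T : Subgroup G}
    (hS : IsPGroup p S) (h : IsWellPlaced p W S T) : IsWellPlaced p W S (W (S ⊓ N[T])) :=
  ⟨(hW _ hS.to_inf_left).1.trans inf_le_left, fun i => by
    rw [← functorTower_succ]; exact h.2 (i + 1)⟩

theorem wp_of_next {W : Subgroup G → Subgroup G} {S T : Subgroup G} (hS : IsPGroup p S)
    (hT : T ≤ S) (h1 : SylIn p (S ⊓ N[T]) N[T]) (h : IsWellPlaced p W S (W (S ⊓ N[T]))) :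
    IsWellPlaced p W S T :=
  ⟨hT, fun i => by
    cases i with
    | zero => exact (sylIn_inf_N_iff hS).1 h1
    | succ i => rw [functorTower_succ]; exact h.2 i⟩

omit [Finite G] [Fact p.Prime] in
theorem cf_cj {W : Subgroup G → Subgroup G} (hW : IsConjugacyFunctor p W) {P : Subgroup G}
    (hP : IsPGroup p P) (g : G) : W (cj g P) = cj g (W P) := (hW P hP).2.2 g

omit [Finite G] [Fact p.Prime] in
theorem cf_N_le {W : Subgroup G → Subgroup G} (hW : IsConjugacyFunctor p W) {P : Subgroup G}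
    (hP : IsPGroup p P) : N[P] ≤ N[W P] := fun g hg => by
  rw [mem_N_iff_cj, ← cf_cj hW hP, cj_eq_of_mem_N hg]

theorem lt_inf_N_cf {W : Subgroup G → Subgroup G} (hW : IsConjugacyFunctor p W) {S R : Subgroup G}
    (hS : IsPGroup p S) (h : R < S) : R < S ⊓ N[W R] :=
  (pgrp_lt_inf_N hS h).trans_le (inf_le_inf_left _ (cf_N_le hW (hS.to_le h.le)))

theorem wp_self {W : Subgroup G → Subgroup G} (hW : IsConjugacyFunctor p W) {S : Subgroup G}
    (hS : SylIn p S ⊤) {T : Subgroup G} (hT : T ≤ S) (hN : S ≤ N[T]) : IsWellPlaced p W S T := by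
  have key : ∀ i, S ≤ N[functorTower W S T i] := by
    intro i
    induction i with
    | zero => exact hN
    | succ i ih =>
      rw [functorTower, inf_eq_left.2 ih]
      exact le_normalizer.trans (cf_N_le hW hS.isP)
  refine (wellPlaced_iff hS.isP).2 ⟨hT, fun i => ?_⟩
  rw [inf_eq_left.2 (key i)]
  exact hS.mono (key i) le_top

theorem exists_cj_wp {W : Subgroup G → Subgroup G} (hW : IsConjugacyFunctor p W) {S : Subgroup G}
    (hS : SylIn p S ⊤) (T : Subgroup G) (hT : T ≤ S) :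
    ∃ y, IsWellPlaced p W S (cj y T) ∧ cj y (S ⊓ N[T]) ≤ S := by
  suffices H : ∀ (k : ℕ) (T : Subgroup G), Nat.card S - Nat.card ↥(S ⊓ N[T]) = k → T ≤ S →
      ∃ y, IsWellPlaced p W S (cj y T) ∧ cj y (S ⊓ N[T]) ≤ S from H _ T rfl hT
  intro k
  induction k using Nat.strong_induction_on with
  | _ k ih =>
  intro T hk hT
  obtain ⟨h, h1, h2⟩ := exists_cj_fn hS T
  have hT1 : cj h T ≤ S := (cj_mono _ (le_inf hT le_normalizer)).trans h2
  by_cases hR : S ⊓ N[cj h T] = S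
  · exact ⟨h, wp_self hW hS hT1 (inf_eq_left.1 hR), h2⟩
  have hlt := lt_inf_N_cf hW hS.isP (lt_of_le_of_ne inf_le_left hR)
  have hle : cj h (S ⊓ N[T]) ≤ S ⊓ N[cj h T] :=
    le_inf h2 (by rw [← cj_N]; exact cj_mono _ inf_le_right)
  have c1 := card_le_of_le hle
  rw [card_cj] at c1
  have c2 := card_lt_of_lt hlt
  have c3 : Nat.card ↥(S ⊓ N[W (S ⊓ N[cj h T])]) ≤ Nat.card S := card_le_of_le inf_le_left
  obtain ⟨y, hy1, hy2⟩ := ih _ (by omega) (W (S ⊓ N[cj h T])) rfl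
    ((hW _ hS.isP.to_inf_left).1.trans inf_le_left)
  have h3 : cj y (S ⊓ N[cj h T]) ≤ S := (cj_mono _ hlt.le).trans hy2
  have h4 : SylIn p (cj y (S ⊓ N[cj h T])) N[cj (y * h) T] := by
    rw [cj_mul, ← cj_N y]; exact sylIn_cj h1 y
  have e : S ⊓ N[cj (y * h) T] = cj y (S ⊓ N[cj h T]) :=
    h4.max _ inf_le_right hS.isP.to_inf_left (le_inf h3 h4.le)
  refine ⟨y * h, wp_of_next hS.isP ?_ (e ▸ h4) ?_, ?_⟩
  · rw [cj_mul]; exact (cj_mono _ (le_inf hT1 le_normalizer)).trans h3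
  · rw [e, cf_cj hW hS.isP.to_inf_left]; exact hy1
  · rw [cj_mul]; exact (cj_mono _ hle).trans h3

/-- The hypotheses of the local-to-global principle for a set of functors, given a class `E` of
subgroups meeting every conjugacy class suitably. -/
theorem e_up_WAdm {𝓦 : Set (Subgroup G → Subgroup G)} (h𝓦 : ∀ W ∈ 𝓦, IsConjugacyFunctor p W)
    {S : Subgroup G} (hS : IsPGroup p S) {E : Subgroup G → Prop} (hE : ∀ U, E U → U ≤ S ∧ U ≠ ⊥)
    (e_cover : ∀ B, B ≤ S → B ≠ ⊥ → ∃ y, E (cj y B) ∧ cj y (S ⊓ N[B]) ≤ S) :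
    ∀ U M, E U → S ⊓ N[U] ≠ S → WAdm 𝓦 (S ⊓ N[U]) M → (∃ M', WAdm 𝓦 S M' ∧ M ≤ M') ∨
      ∃ V y, M ≤ N[V] ∧ S ⊓ N[U] < S ⊓ N[V] ∧ E (cj y V) ∧ cj y (S ⊓ N[V]) ≤ S := by
  rintro U _ hU hne ⟨W, hW, rfl⟩
  have h0 : S ⊓ N[U] ≠ ⊥ := fun h =>
    (hE U hU).2 (le_bot_iff.1 (h ▸ le_inf (hE U hU).1 le_normalizer))
  have h1 := h𝓦 W hW _ (hS.to_inf_left (K := N[U]))
  obtain ⟨y, h2, h3⟩ := e_cover _ (h1.1.trans inf_le_left) (h1.2.1 h0)
  exact Or.inr ⟨_, y, le_rfl, lt_inf_N_cf (h𝓦 W hW) hS (lt_of_le_of_ne inf_le_left hne), h2, h3⟩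

theorem cover_fn {S : Subgroup G} (hS : SylIn p S ⊤) (B : Subgroup G) (hB : B ≤ S) (h0 : B ≠ ⊥) :
    ∃ y, (cj y B ≤ S ∧ cj y B ≠ ⊥ ∧ SylIn p (S ⊓ N[cj y B]) N[cj y B]) ∧ cj y (S ⊓ N[B]) ≤ S := by
  obtain ⟨y, h1, h2⟩ := exists_cj_fn hS B
  exact ⟨y, ⟨(cj_mono _ (le_inf hB le_normalizer)).trans h2, by simpa using h0, h1⟩, h2⟩

theorem cover_wp {W : Subgroup G → Subgroup G} (hW : IsConjugacyFunctor p W) {S : Subgroup G}
    (hS : SylIn p S ⊤) (B : Subgroup G) (hB : B ≤ S) (h0 : B ≠ ⊥) :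
    ∃ y, (cj y B ≠ ⊥ ∧ IsWellPlaced p W S (cj y B)) ∧ cj y (S ⊓ N[B]) ≤ S := by
  obtain ⟨y, h1, h2⟩ := exists_cj_wp hW hS B hB
  exact ⟨y, ⟨by simpa using h0, h1⟩, h2⟩

theorem fusAt_of_local_fn {𝓦 : Set (Subgroup G → Subgroup G)}
    (h𝓦 : ∀ W ∈ 𝓦, IsConjugacyFunctor p W) {S : Subgroup G} (hS : SylIn p S ⊤)
    (hloc : ∀ U, U ≤ S → U ≠ ⊥ → SylIn p (S ⊓ N[U]) N[U] → FusAt (WAdm 𝓦) N[U] (S ⊓ N[U])) :
    FusAt (WAdm 𝓦) ⊤ S :=
  fusAt_of_local hS (fun U => U ≤ S ∧ U ≠ ⊥ ∧ SylIn p (S ⊓ N[U]) N[U])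
    (fun U h => hloc U h.1 h.2.1 h.2.2)
    (e_up_WAdm h𝓦 hS.isP (fun _ h => ⟨h.1, h.2.1⟩) (cover_fn hS))
    (fun B h1 h2 _ => cover_fn hS B h1 h2)

theorem trAt_of_local_fn {𝓦 : Set (Subgroup G → Subgroup G)}
    (h𝓦 : ∀ W ∈ 𝓦, IsConjugacyFunctor p W) {S : Subgroup G} (hS : SylIn p S ⊤)
    (hloc : ∀ U, U ≤ S → U ≠ ⊥ → SylIn p (S ⊓ N[U]) N[U] → TrAt (WAdm 𝓦) N[U] (S ⊓ N[U])) :
    TrAt (WAdm 𝓦) ⊤ S :=
  trAt_of_local hS (fun U => U ≤ S ∧ U ≠ ⊥ ∧ SylIn p (S ⊓ N[U]) N[U])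
    (fun U h => hloc U h.1 h.2.1 h.2.2)
    (e_up_WAdm h𝓦 hS.isP (fun _ h => ⟨h.1, h.2.1⟩) (cover_fn hS))
    (fun B h1 h2 _ => cover_fn hS B h1 h2)

theorem fusAt_of_local_wp {W : Subgroup G → Subgroup G} (hW : IsConjugacyFunctor p W)
    {S : Subgroup G} (hS : SylIn p S ⊤)
    (hloc : ∀ U, U ≠ ⊥ → IsWellPlaced p W S U → FusAt (WAdm {W}) N[U] (S ⊓ N[U])) :
    FusAt (WAdm {W}) ⊤ S :=
  fusAt_of_local hS (fun U => U ≠ ⊥ ∧ IsWellPlaced p W S U) (fun U h => hloc U h.1 h.2)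
    (e_up_WAdm (by simpa using hW) hS.isP (fun _ h => ⟨h.2.1, h.1⟩) (cover_wp hW hS))
    (fun B h1 h2 _ => cover_wp hW hS B h1 h2)

theorem trAt_of_local_wp {W : Subgroup G → Subgroup G} (hW : IsConjugacyFunctor p W)
    {S : Subgroup G} (hS : SylIn p S ⊤)
    (hloc : ∀ U, U ≠ ⊥ → IsWellPlaced p W S U → TrAt (WAdm {W}) N[U] (S ⊓ N[U])) :
    TrAt (WAdm {W}) ⊤ S :=
  trAt_of_local hS (fun U => U ≠ ⊥ ∧ IsWellPlaced p W S U) (fun U h => hloc U h.1 h.2)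
    (e_up_WAdm (by simpa using hW) hS.isP (fun _ h => ⟨h.2.1, h.1⟩) (cover_wp hW hS))
    (fun B h1 h2 _ => cover_wp hW hS B h1 h2)

end

end Cfsg.Agent.H21
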