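import Mathlib
import Cfsg.Agent.H21.SecTr

/-! Control of strong fusion from sections of characteristic `p`. -/

set_option autoImplicit false

namespace Cfsg.Agent.H21

open Subgroup Cfsg.Agent.H22 Cfsg.Agent.H18
open scoped Pointwise commutatorElement

universe u

variable {p : ℕ} [Fact p.Prime]

section
variable {G : Type*} [Group G] [Finite G]

/-- To reach all fusion it suffices to reach the automorphisms of centric fully normalized
subgroups. -/
theorem reach_of_centric {S : Subgroup G} (hS : SylIn p S ⊤) {M : G → Prop} (hM : ∀ x, M x → M x⁻¹)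
    (h_loc : ∀ B, B ≤ S → SylIn p (S ⊓ N[B]) N[B] → S ⊓ C[B] ≤ B →
      (∀ (A : Subgroup G) (g : G), Nat.card B < Nat.card A → A ≤ S → cj g A ≤ S → Reach M S A g) →
      ∀ x ∈ N[B], Reach M S B x) (A : Set G) (g : G) (hA : A ⊆ S) (hI : Into A g S) :
    Reach M S A g := by
  have key := alperin_centric hS (fun A g => A ≤ S → cj g A ≤ S → Reach M S A g) ?_ ?_ ?_ ?_ ?_
  · have h1 : closure A ≤ S := (closure_le _).2 hA
    have h2 := into_iff_cj.1 hI.closure
    exact (key _ g h1 h2 h1 h2).mono subset_closure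
  · intro A g h h1 h2 h3 r1 r2 _ _
    refine (r1 h1 h2).trans ?_
    rw [cs_coe]
    exact r2 h2 (by rwa [← cj_mul])
  · intro A g h1 h2 r _ _
    rw [← cs_coe]
    exact (r h1 h2).inv hM
  · intro A B g h1 h2 h3 r _ _
    exact (r h2 h3).mono h1
  · intro A g h e r h1 h2
    exact (r h1 (into_iff_cj.1 (e.symm.into (into_iff_cj.2 h2)))).congr e
  · intro B h1 h2 h3 IH x hx _ _
    exact h_loc B h1 h2 h3 (fun A g a b c => IH A g a b c b c) x hx

omit [Fact p.Prime] in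
theorem reach_of_N_lt {S B D : Subgroup G} {M : G → Prop}
    (IH : ∀ (A : Subgroup G) (g : G), Nat.card B < Nat.card A → A ≤ S → cj g A ≤ S → Reach M S A g)
    (hB : B ≤ S) (hD : D ≤ S) (hDB : ¬ D ≤ B) {x : G} (h1 : x ∈ N[B]) (h2 : x ∈ N[D]) :
    Reach M S B x := by
  have hle : B ⊔ D ≤ S := sup_le hB hD
  exact (IH _ x (card_lt_of_lt (left_lt_sup.2 hDB)) hle
    (by rw [cj_eq_of_mem_N (mem_N_sup h1 h2)]; exact hle)).mono (le_sup_left (a := B) (b := D))

end

variable {G : Type u} [Group G] [Finite G] {𝓦 : Set CFun.{u}}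

theorem fusMin_over (h𝓦 : ∀ W ∈ 𝓦, IsCharPFunctor.{u} p W) {S : Subgroup G} (hS : SylIn p S ⊤)
    (hsec : ∀ (Y : Type u) [Group Y] [Finite Y], Sec G Y → Nat.card Y < Nat.card G → FusT p 𝓦 Y)
    {H : Subgroup G} (h1 : S ≤ H) (h2 : H ≠ ⊤) {A : Set G} {g : G} (hg : g ∈ H) (hA : A ⊆ S)
    (hI : Into A g S) : Reach (FStep (CAdm 𝓦) ⊤ S) S A g :=
  ((hsec H (Sec.subgroup H) (card_lt_of_ne_top' h2)).at h𝓦 (hS.mono h1 le_top) A g hg hA hI).imp
    le_rfl (FStep.mono le_top)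

theorem fusAt_of_quot_coprime (h𝓦 : ∀ W ∈ 𝓦, IsCharPFunctor.{u} p W) {S K : Subgroup G} [K.Normal]
    (hS : SylIn p S ⊤) (hK : (Nat.card K).Coprime p)
    (h : FusAt (CAdm 𝓦) ⊤ (S.map (QuotientGroup.mk' K))) : FusAt (CAdm 𝓦) ⊤ S := by
  intro A g _ hA hI
  have hinj := mk_eq_one_of_coprime hS.isP hK
  refine Reach.lift' (QuotientGroup.mk' K) hA (fun a ha b hb e => ?_) hI ?_
    (h _ _ trivial (by rintro _ ⟨a, ha, rfl⟩; exact mem_map_of_mem _ (hA ha)) (by
      rintro _ ⟨a, ha, rfl⟩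
      simpa using mem_map_of_mem (QuotientGroup.mk' K) (hI a ha)))
  · exact mul_inv_eq_one.1 (hinj _ (mul_mem ha (inv_mem hb)) (by rw [map_mul, map_inv, e, mul_inv_cancel]))
  rintro x' ⟨M, hM, -, hx⟩ B hB hI'
  obtain ⟨W, hW, rfl⟩ := cAdm_iff.1 hM
  rw [N_induced_map_of_coprime (h𝓦 W hW) hS.isP hK] at hx
  obtain ⟨x, hx, rfl⟩ := hx
  set L := N[inducedFunctor W S] with hL
  have hSL : S ≤ L := le_normalizer.trans (cf_N_le (cf_induced (h𝓦 W hW)) hS.isP)
  have hB' : closure B ≤ S := (closure_le _).2 hB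
  have h1 : cj x (closure B) ≤ S ⊔ K ⊓ L := by
    rw [← dedekind_N (le_N_of_normal _ _) hSL]
    refine le_inf ?_ (cj_le_of_mem hx (hB'.trans hSL))
    rw [cj_closure, closure_le]
    rintro _ ⟨b, hb, rfl⟩
    have := hI' _ ⟨b, hb, rfl⟩
    rw [← map_inv, ← map_mul, ← map_mul, ← mem_comap, comap_map_eq, QuotientGroup.ker_mk'] at this
    exact this
  obtain ⟨y, hy, h2⟩ := syl_exists_cj_le (hS.mono le_sup_left le_top) h1
    (isPGroup_cj _ (hS.isP.to_le hB'))
  obtain ⟨s, hs, n, hn, rfl⟩ := (mem_sup_of_le_N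
    (le_N_inf (le_N_of_normal _ _) (hSL.trans le_normalizer))).1 hy
  rw [cj_mul, cj_le_iff, cj_eq_of_mem (inv_mem hs), ← cj_mul] at h2
  refine ⟨n * x, Reach.single hB ⟨_, cAdm_iff.2 ⟨W, hW, rfl⟩, trivial, mul_mem hn.2 hx⟩
    ((into_iff_cj.2 h2).mono subset_closure le_rfl), ?_⟩
  rw [map_mul, show QuotientGroup.mk' K n = 1 from (QuotientGroup.eq_one_iff _).2 hn.1, one_mul]
  exact Agree.refl _ _

theorem fusMin_chp (h𝓦 : ∀ W ∈ 𝓦, IsCharPFunctor.{u} p W) {S : Subgroup G} (hS : SylIn p S ⊤)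
    (hsec : ∀ (Y : Type u) [Group Y] [Finite Y], Sec G Y → Nat.card Y < Nat.card G → FusT p 𝓦 Y)
    (hG : ¬ FusAt (CAdm 𝓦) ⊤ S) : C[pCore p G] ≤ pCore p G := by
  have hO : pPrimeCore p G = ⊥ := by
    by_contra h0
    have := H2.pPrimeCore_characteristic (p := p) (G := G)
    exact hG (fusAt_of_quot_coprime h𝓦 hS H2.pPrimeCore_coprime
      (hsec _ (Sec.quotient _) (H2.card_quotient_lt_of_ne_bot h0) _
        (sylIn_map_top hS _ (QuotientGroup.mk'_surjective _))))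
  refine chp_of_inf_C_le hS hO ?_
  by_contra hc
  have hover := fun H => fusMin_over h𝓦 hS hsec (H := H)
  have := normal_pCore (p := p) (G := G)
  set Q := pCore p G with hQ
  have := normal_C Q
  have hQS : Q ≤ S := pCore_le_syl hS
  have hQ0 : Q ≠ ⊥ := by
    intro h0
    refine hG (fusAt_of_local_fn (cf_IW h𝓦) hS fun U h1 h2 h3 => ?_)
    refine (hsec _ (Sec.subgroup _) (card_lt_of_ne_top' fun h => h2 ?_)).at h𝓦 h3
    exact le_bot_iff.1 (h0 ▸ le_pCore (normal_of_top_le_N h.ge) (hS.isP.to_le h1))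
  have hSQ : ¬ S ≤ Q := fun h => hc (inf_le_left.trans h)
  have hSt : S ≠ ⊤ := fun h => hSQ (le_pCore (h ▸ inferInstance) hS.isP)
  refine hG fun A g _ => reach_of_centric hS FStep.inv (fun B hB hsyl _ IH x hx => ?_) A g
  by_cases hQB : Q ≤ B
  swap
  · exact reach_of_N_lt IH hB hQS hQB hx (mem_N_of_normal _ _)
  have hinto : ∀ y ∈ N[B], Into B y S := fun y hy =>
    into_iff_cj.2 (by rw [cj_eq_of_mem_N hy]; exact hB)
  by_cases hH : S ⊔ C[Q] = ⊤
  · -- pass to the quotient by `Q`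
    have hs := QuotientGroup.mk'_surjective Q
    have hS' := sylIn_map_top hS _ hs
    have hS0 : S.map (QuotientGroup.mk' Q) ≠ ⊥ := by
      rwa [Ne, Subgroup.map_eq_bot_iff, QuotientGroup.ker_mk']
    have hcm : ∀ D : Subgroup G, Q ≤ D → ∀ z, QuotientGroup.mk' Q z ∈ D.map (QuotientGroup.mk' Q) →
        z ∈ D := fun D hD z hz => by
      rwa [← mem_comap, comap_map_eq, QuotientGroup.ker_mk', sup_eq_left.2 hD] at hz
    obtain ⟨c, rc, ec⟩ := (hsec _ (Sec.quotient _) (H2.card_quotient_lt_of_ne_bot hQ0) _ hS'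
      (QuotientGroup.mk' Q '' B) (QuotientGroup.mk' Q x) trivial
      (by rintro _ ⟨a, ha, rfl⟩; exact mem_map_of_mem _ (hB ha)) (by
        rintro _ ⟨a, ha, rfl⟩
        simpa using mem_map_of_mem (QuotientGroup.mk' Q) (hinto x hx a ha))).lift
      (M := FStep (CAdm 𝓦) ⊤ S) (QuotientGroup.mk' Q) hB (by
        rintro x' ⟨M, hM, -, hx'⟩ D hD hI
        obtain ⟨W, hW, rfl⟩ := cAdm_iff.1 hM
        obtain ⟨y, rfl⟩ := hs x'
        have hcf := cf_induced (G := G ⧸ Q) (h𝓦 W hW)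
        refine ⟨y, hover _ (map_le_iff_le_comap.1 (le_normalizer.trans (cf_N_le hcf hS'.isP)))
          (comap_N_ne_top (hS'.isP.to_le (inducedFunctor_le _ _)) ((hcf _ hS'.isP).2.1 hS0)) hx' hD
          (fun a ha => hcm S hQS _ (by simpa using hI _ ⟨a, ha, rfl⟩)), Agree.refl _ _⟩)
    have hy : c⁻¹ * x ∈ cmod B Q := by
      refine mem_cmod.2 ⟨mem_N_of_normal _ _, fun b hb => ?_⟩
      have := agree_iff_mem_C.1 ec.symm _ ⟨b, hb, rfl⟩
      rw [← QuotientGroup.eq_one_iff, ← QuotientGroup.mk'_apply, map_commutatorElement,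
        commutatorElement_eq_one_iff_mul_comm, map_mul, map_inv]
      exact this
    have hL : cmod B Q ≤ N[B] := le_N_of_comm_le ((le_cmod_normal.1 le_rfl).trans hQB)
    have hsyl' := syl_inf' hsyl (le_N_cmod le_rfl (le_N_of_normal _ _)) hL
    have h1 : cmod B Q ≤ C[B] ⊔ S ⊓ N[B] ⊓ cmod B Q := by
      refine le_sup_syl hsyl' (hL.trans (N_le_N_C B)) fun z hz => ?_
      obtain ⟨k, hk⟩ := exists_pow_coprime (p := p) (isOfFinOrder_of_finite z)
      refine ⟨k, mem_C_of_chain (hS.isP.to_le hB) (hL (pow_mem hz _)) hk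
        (le_cmod_normal.1 (zpowers_le.2 (pow_mem hz _))) ?_⟩
      exact pResidualOf_le_of_le_sup hS.isP (le_N_of_normal _ _) (H := ⊤)
        (by rw [sup_comm, hH]) (mem_pResidualOf trivial hk)
    rw [sup_comm] at h1
    obtain ⟨s, hs', z, hz, e⟩ := (mem_sup_of_le_N
      (inf_le_left.trans (inf_le_right.trans (N_le_N_C B)))).1 (h1 hy)
    have r1 : Reach (FStep (CAdm 𝓦) ⊤ S) S B s := hover S le_rfl hSt hs'.1.1 hB (hinto s hs'.1.2)
    have r2 := r1.trans (h := c) (by rwa [cs_coe, cj_eq_of_mem_N hs'.1.2])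
    have e' : x = c * s * z := by rw [mul_assoc, e]; group
    rw [e']
    exact r2.congr (agree_mul_C hz).symm
  · have hK : N[B] ≤ N[Q ⊔ C[Q]] := le_N_of_normal _ _
    have h1 := syl_inf hsyl hK
    obtain ⟨n, hn, k, hk, rfl⟩ := syl_frattini' h1 (mem_N_inf (le_normalizer hx) (hK hx))
    have hn' : n ∈ N[B] := by simpa using mul_mem hx (inv_mem hk.1)
    have r1 : Reach (FStep (CAdm 𝓦) ⊤ S) S B k :=
      hover _ le_sup_left hH (sup_le_sup_right hQS _ hk.2) hB (hinto k hk.1)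
    refine r1.trans ?_
    rw [cs_coe, cj_eq_of_mem_N hk.1]
    by_cases hP : S ⊓ N[B] ⊓ (Q ⊔ C[Q]) ≤ B
    swap
    · exact reach_of_N_lt IH hB (inf_le_left.trans inf_le_left) hP hn' hn
    have h2 : S ⊓ (Q ⊔ C[Q]) ≤ B := by
      have h3 : B ⊔ S ⊓ (Q ⊔ C[Q]) ≤ S := sup_le hB inf_le_left
      have h4 : B ≤ N[S ⊓ (Q ⊔ C[Q])] := le_N_inf (hB.trans le_normalizer) (le_N_of_normal _ _)
      have := pgrp_eq_of_inf_N_le (hS.isP.to_le h3) le_sup_left (by
        rw [dedekind_N h4 le_normalizer]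
        exact sup_le le_rfl (le_trans (by
          exact le_inf (le_inf (inf_le_left.trans inf_le_left) inf_le_right)
            (inf_le_left.trans inf_le_right)) hP))
      exact le_sup_right.trans this.ge
    have e : S ⊓ (Q ⊔ C[Q]) = B ⊓ (Q ⊔ C[Q]) :=
      le_antisymm (le_inf h2 inf_le_right) (inf_le_inf_right _ hB)
    refine hover N[S ⊓ (Q ⊔ C[Q])] (le_N_inf le_normalizer (le_N_of_normal _ _)) (fun h => hc ?_)
      (by rw [e]; exact mem_N_inf hn' (mem_N_of_normal _ _)) hB (hinto n hn')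
    exact (inf_le_inf_left _ le_sup_right).trans
      (le_pCore (normal_of_top_le_N h.ge) hS.isP.to_inf_left)

theorem fusT_of_chp (h𝓦 : ∀ W ∈ 𝓦, IsCharPFunctor.{u} p W)
    (h : ∀ (X : Type u) [Group X] [Finite X], Sec G X → C[pCore p X] ≤ pCore p X → FusT p 𝓦 X)
    (X : Type u) [Group X] (hX : Sec G X) : FusT p 𝓦 X := by
  refine sec_induction (FusT p 𝓦) (fun X _ _ hX ih S hS => ?_) X hX
  by_contra hc
  exact hc (h X hX (fusMin_chp h𝓦 hS ih hc) S hS)

omit [Finite G] [Fact p.Prime] in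
theorem fusAt_of_normal {S : Subgroup G} {W : CFun.{u}} (hW : W ∈ 𝓦)
    (h : (inducedFunctor W S).Normal) : FusAt (CAdm 𝓦) ⊤ S := fun _ g _ hA hI =>
  Reach.single hA ⟨_, cAdm_iff.2 ⟨W, hW, rfl⟩, trivial, mem_N_of_normal g _⟩ hI

theorem fusT_of_normal {W : CFun.{u}} (hW : IsCharPFunctor.{u} p W)
    (h : ∀ (X : Type u) [Group X] [Finite X], Sec G X → C[pCore p X] ≤ pCore p X →
      ∀ S : Subgroup X, SylIn p S ⊤ → (inducedFunctor W S).Normal)
    (X : Type u) [Group X] (hX : Sec G X) : FusT p {W} X :=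
  fusT_of_chp (by simpa using hW)
    (fun X _ _ hX hc S hS => fusAt_of_normal (Set.mem_singleton W) (h X hX hc S hS)) X hX

omit [Finite G] [Fact p.Prime] in
theorem controlsStrongFusion_of_reach {G : Type*} [Group G] (S : Sylow p G) {U : Subgroup G}
    (hU : U ≤ S) {M : G → Prop} (hM : ∀ x, M x → x ∈ N[U])
    (h : ∀ (A : Set G) g, A ⊆ (S : Subgroup G) → Into A g S → Reach M S A g) :
    ControlsStrongFusion p U := by
  refine ⟨S, hU, fun A hA => ⟨hA, fun g hg => ?_⟩⟩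
  obtain ⟨x, hx, e⟩ := (h A g hA (into_iff_image.2 hg)).exists_agree hM
  exact ⟨x, hx, e.symm⟩

omit [Finite G] [Fact p.Prime] in
theorem FusT.controls {W : CFun.{u}} (h : FusT p {W} G) (S : Sylow p G) :
    ControlsStrongFusion p (inducedFunctor W (S : Subgroup G)) := by
  refine controlsStrongFusion_of_reach S (inducedFunctor_le _ _) ?_
    fun A g => h S (sylIn_top S) A g trivial
  rintro x ⟨M, hM, hx⟩
  obtain ⟨W', hW', rfl⟩ := cAdm_iff.1 hM
  rw [Set.mem_singleton_iff.1 hW'] at hx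
  exact hx.2

theorem kinf_normal_of_stable {G : Type*} [Group G] [Finite G]
    (hst : ∀ (K : Subgroup G) [K.Normal], IsNormalizerPStable p (G ⧸ K))
    (hc : C[pCore p G] ≤ pCore p G) {S : Subgroup G} (hS : pCore p G ≤ S) :
    (kL S).Normal ∧ (kU S).Normal := by
  by_contra hn
  obtain ⟨g, -, -, -, -, h⟩ := kinf_deg4 hS (not_and_or.1 hn)
  obtain ⟨U, V, a, b, c, d⟩ := h hc
  have := a.2.2.1
  exact d (chief_comm_le_of_stable a (pgrp_pCore.to_le b) (hst V) c)

theorem fusT_kInf_of_stable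
    (hst : ∀ (X : Type u) [Group X], Sec G X → IsNormalizerPStable p X) :
    FusT p {kInfLower} G ∧ FusT p {kInfUpper} G := by
  constructor
  · refine fusT_of_normal (G := G) (isCharPFunctor_kInfLower p) (fun X _ _ hX hc S hS => ?_) G
      (Sec.refl G)
    rw [inducedFunctor_kInfLower]
    exact (kinf_normal_of_stable (fun K _ => hst _ (hX.trans (Sec.quotient K))) hc
      (pCore_le_syl hS)).1
  · refine fusT_of_normal (G := G) (isCharPFunctor_kInfUpper p) (fun X _ _ hX hc S hS => ?_) G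
      (Sec.refl G)
    rw [inducedFunctor_kInfUpper]
    exact (kinf_normal_of_stable (fun K _ => hst _ (hX.trans (Sec.quotient K))) hc
      (pCore_le_syl hS)).2

/-- A factorization `G = N₁ N₂` by overgroups of `S` controls fusion. -/
theorem reach_of_factor {G : Type*} [Group G] [Finite G] {S L₁ L₂ : Subgroup G} (hS : SylIn p S ⊤)
    (h1 : S ≤ L₁) (h2 : S ≤ L₂) {M : G → Prop} (hM₁ : ∀ x ∈ L₁, M x) (hM₂ : ∀ x ∈ L₂, M x)
    {a b : G} (ha : a ∈ L₁) (hb : b ∈ L₂) {A : Set G} (hA : A ⊆ S) (hI : Into A (a * b) S) :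
    Reach M S A (a * b) := by
  have hA' : closure A ≤ S := (closure_le _).2 hA
  have h3 : cj b (closure A) ≤ L₁ ⊓ L₂ := by
    refine le_inf ?_ (cj_le_of_mem hb (hA'.trans h2))
    have := cj_le_of_mem (inv_mem ha) ((into_iff_cj.1 hI.closure).trans h1)
    rwa [cj_mul, cj_inv_cj] at this
  obtain ⟨d, hd, h4⟩ := syl_exists_cj_le (hS.mono (le_inf h1 h2) le_top) h3
    (isPGroup_cj _ (hS.isP.to_le hA'))
  rw [← cj_mul] at h4
  have r := (Reach.single (M := M) hA (hM₂ _ (mul_mem hd.2 hb))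
    ((into_iff_cj.2 h4).mono subset_closure le_rfl)).step (hM₁ _ (mul_mem ha (inv_mem hd.1)))
  have e : a * d⁻¹ * (d * b) = a * b := by group
  rw [e] at r
  exact r hI

theorem fusT_pair {W₁ W₂ : CFun.{u}} (hW₁ : IsCharPFunctor.{u} p W₁) (hW₂ : IsCharPFunctor.{u} p W₂)
    (h : ∀ (X : Type u) [Group X] [Finite X], Sec G X → C[pCore p X] ≤ pCore p X →
      ∀ S : Subgroup X, SylIn p S ⊤ → ∀ x : X, ∃ a ∈ N[inducedFunctor W₁ S],
        ∃ b ∈ N[inducedFunctor W₂ S], x = a * b) : FusT p {W₁, W₂} G := by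
  refine fusT_of_chp (G := G) (by simp [hW₁, hW₂]) (fun X _ _ hX hc S hS A g _ hA hI => ?_) G
    (Sec.refl G)
  obtain ⟨a, ha, b, hb, rfl⟩ := h X hX hc S hS g
  exact reach_of_factor hS (le_normalizer.trans (cf_N_le (cf_induced hW₁) hS.isP))
    (le_normalizer.trans (cf_N_le (cf_induced hW₂) hS.isP))
    (fun x hx => ⟨_, cAdm_iff.2 ⟨W₁, by simp, rfl⟩, trivial, hx⟩)
    (fun x hx => ⟨_, cAdm_iff.2 ⟨W₂, by simp, rfl⟩, trivial, hx⟩) ha hb hA hI

omit [Fact p.Prime] in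
theorem map_omegaZ {G G' : Type*} [Group G] [Group G'] (f : G →* G') {S : Subgroup G}
    (hf : ∀ a ∈ S, f a = 1 → a = 1) :
    (omegaOne p (S ⊓ C[S])).map f = omegaOne p (S.map f ⊓ C[S.map f]) := by
  ext y
  rw [mem_omegaOne_iff (H22.center_le_C _)]
  constructor
  · rintro ⟨x, hx, rfl⟩
    obtain ⟨h1, h2⟩ := (mem_omegaOne_iff (H22.center_le_C _)).1 hx
    exact ⟨⟨mem_map_of_mem f h1.1, map_C_le f S (mem_map_of_mem f h1.2)⟩, by rw [← map_pow, h2, map_one]⟩
  · rintro ⟨⟨⟨x, hx, rfl⟩, h1⟩, h2⟩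
    refine ⟨x, (mem_omegaOne_iff (H22.center_le_C _)).2 ⟨⟨hx, mem_C.2 fun s hs => ?_⟩,
      hf _ (pow_mem hx _) (by rwa [map_pow])⟩, rfl⟩
    rw [← commutatorElement_eq_one_iff_mul_comm]
    refine hf _ (commutator_le_self S (commutator_mem_commutator hs hx)) ?_
    rw [map_commutatorElement, commutatorElement_eq_one_iff_mul_comm]
    exact mem_C.1 h1 _ (mem_map_of_mem f hs)

/-- The factorization `X = C(Ω₁Z(S)) N(W S)` extends from sections of characteristic `p` to all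
sections with `Ω₁Z(S) ≤ O_p`. -/
theorem factor_of_chp {W : CFun.{u}} (hW : IsCharPFunctor.{u} p W)
    (h : ∀ (X : Type u) [Group X] [Finite X], Sec G X → C[pCore p X] ≤ pCore p X →
      ∀ S : Subgroup X, SylIn p S ⊤ → ∀ x : X, ∃ a ∈ C[omegaOne p (S ⊓ C[S])],
        ∃ b ∈ N[inducedFunctor W S], x = a * b) (X : Type u) [Group X] (hX : Sec G X) :
    ∀ S : Subgroup X, SylIn p S ⊤ → omegaOne p (S ⊓ C[S]) ≤ pCore p X →
      ∀ x : X, ∃ a ∈ C[omegaOne p (S ⊓ C[S])], ∃ b ∈ N[inducedFunctor W S], x = a * b := by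
  refine sec_induction (fun X _ => ∀ S : Subgroup X, SylIn p S ⊤ → omegaOne p (S ⊓ C[S]) ≤ pCore p X →
      ∀ x : X, ∃ a ∈ C[omegaOne p (S ⊓ C[S])], ∃ b ∈ N[inducedFunctor W S], x = a * b)
    (fun X _ _ hX ih S hS hZ x => ?_) X hX
  have := normal_pCore (p := p) (G := X)
  by_cases hO : pPrimeCore p X = ⊥
  swap
  · have := H2.pPrimeCore_characteristic (p := p) (G := X)
    have hc := H2.pPrimeCore_coprime (p := p) (G := X)
    have hs := QuotientGroup.mk'_surjective (pPrimeCore p X)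
    have e := map_omegaZ (p := p) _ (mk_eq_one_of_coprime hS.isP hc)
    obtain ⟨a, ha, b, hb, hx⟩ := ih _ (Sec.quotient _) (H2.card_quotient_lt_of_ne_bot hO) _
      (sylIn_map_top hS _ hs) (by
        rw [← e]
        exact (map_mono hZ).trans (le_pCore (Normal.map normal_pCore _ hs) (pgrp_pCore.map _)))
      (QuotientGroup.mk' _ x)
    rw [← e, C_map_mk_of_coprime (pgrp_pCore.to_le hZ) hc] at ha
    rw [N_induced_map_of_coprime hW hS.isP hc] at hb
    obtain ⟨a, ha, rfl⟩ := ha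
    obtain ⟨b, hb, rfl⟩ := hb
    have h1 : a⁻¹ * x * b⁻¹ ∈ pPrimeCore p X := by
      rw [← QuotientGroup.eq_one_iff, ← QuotientGroup.mk'_apply, map_mul, map_mul, hx]
      simp
    refine ⟨a * (a⁻¹ * x * b⁻¹), mul_mem ha (C_anti hZ (le_C_iff_comm'.2 ?_ h1)), b, hb, by group⟩
    exact le_bot_iff.1 ((commutator_le_inf _ _).trans (pgrp_inf_eq_bot pgrp_pCore hc).le)
  by_cases hc : S ⊓ C[pCore p X] ≤ pCore p X
  · exact h X hX (chp_of_inf_C_le hS hO hc) S hS x
  have := normal_C (pCore p X)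
  have hQS := pCore_le_syl hS
  obtain ⟨c, hc', n, hn, rfl⟩ := exists_C_mul_N hS hQS x
  set L := N[pCore p X ⊔ S ⊓ C[pCore p X]] with hL
  have h8 : S ≤ L := le_N_sup (le_N_of_normal _ _) (le_N_inf le_normalizer (le_N_of_normal _ _))
  have h9 : L ≠ ⊤ := fun h => hc (le_sup_right.trans
    (le_pCore (normal_of_top_le_N h.ge) (hS.isP.to_le (sup_le hQS inf_le_left))))
  have hS' := sylIn_subgroupOf (hS.mono h8 le_top)
  have e0 : (S.subgroupOf L).map L.subtype = S := by rw [subgroupOf_map_subtype, inf_eq_left.2 h8]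
  have e := map_omegaZ (p := p) L.subtype (S := S.subgroupOf L) fun a _ h => Subtype.ext h
  rw [e0] at e
  obtain ⟨a, ha, b, hb, hx⟩ := ih L (Sec.subgroup L) (card_lt_of_ne_top' h9) _ hS' (by
    rw [← map_subtype_le_map_subtype, e]
    exact hZ.trans (le_pCoreOf (hQS.trans h8) (le_N_of_normal _ _) pgrp_pCore)) ⟨n, hn⟩
  have ha' := map_C_le L.subtype _ (mem_map_of_mem _ ha)
  have hb' := map_N_le L.subtype _ (mem_map_of_mem _ hb)
  rw [e] at ha'
  rw [map_inducedFunctor_inj hW L.subtype_injective hS'.isP, e0] at hb'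
  exact ⟨c * a, mul_mem (C_anti hZ hc') ha', b, hb', by
    rw [show n = a * b from congrArg Subtype.val hx, mul_assoc]⟩

theorem factor_in_N {W W' : CFun.{u}} (hW : IsCharPFunctor.{u} p W) (hW' : IsCharPFunctor.{u} p W')
    (h : ∀ (X : Type u) [Group X] [Finite X], Sec G X → C[pCore p X] ≤ pCore p X →
      ∀ S : Subgroup X, SylIn p S ⊤ → ∀ x : X, ∃ a ∈ C[omegaOne p (S ⊓ C[S])],
        ∃ b ∈ N[inducedFunctor W S], x = a * b) {S : Subgroup G} (hS : SylIn p S ⊤)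
    (hZ : omegaOne p (S ⊓ C[S]) ≤ inducedFunctor W' S) {x : G} (hx : x ∈ N[inducedFunctor W' S]) :
    ∃ b ∈ N[inducedFunctor W S] ⊓ N[inducedFunctor W' S],
      cj x (omegaOne p (S ⊓ C[S])) = cj b (omegaOne p (S ⊓ C[S])) := by
  set L := N[inducedFunctor W' S] with hL
  have h8 : S ≤ L := le_normalizer.trans (cf_N_le (cf_induced hW') hS.isP)
  have hS' := sylIn_subgroupOf (hS.mono h8 le_top)
  have e0 : (S.subgroupOf L).map L.subtype = S := by rw [subgroupOf_map_subtype, inf_eq_left.2 h8]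
  have e := map_omegaZ (p := p) L.subtype (S := S.subgroupOf L) fun a _ h => Subtype.ext h
  rw [e0] at e
  obtain ⟨a, ha, b, hb, hx'⟩ := factor_of_chp hW h L (Sec.subgroup L) _ hS' (by
    rw [← map_subtype_le_map_subtype, e]
    exact hZ.trans (le_pCoreOf le_normalizer le_rfl (hS.isP.to_le (inducedFunctor_le _ _))))
    ⟨x, hx⟩⁻¹
  have ha' := map_C_le L.subtype _ (mem_map_of_mem _ ha)
  have hb' := map_N_le L.subtype _ (mem_map_of_mem _ hb)
  rw [e] at ha'
  rw [map_inducedFunctor_inj hW L.subtype_injective hS'.isP, e0] at hb'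
  refine ⟨(b : G)⁻¹, inv_mem ⟨hb', b.2⟩, ?_⟩
  have e2 : x = (b : G)⁻¹ * (a : G)⁻¹ := by
    rw [← mul_inv_rev, ← show x⁻¹ = a * b from congrArg Subtype.val hx', inv_inv]
  rw [e2, cj_mul, cj_eq_of_mem_N (g := (a : G)⁻¹) (C_le_N _ (inv_mem ha'))]

end Cfsg.Agent.H21
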