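import Mathlib
import Cfsg.Agent.H21.Cit11
import Cfsg.Agent.H27.Frob2
import Cfsg.Agent.BS.BInd0
import Cfsg.Agent.H10.AutPSL2
import Cfsg.Agent.H10.Solub

/-! The structure of an arbitrary CIT group; three pairwise non-adjacent primes. -/

set_option autoImplicit false
set_option linter.unusedSectionVars false

namespace Cfsg.Agent.H21

open Subgroup Cfsg.Agent.FT Cfsg.Agent.GW Cfsg.Agent.H13 Matrix
open scoped MatrixGroups

variable {G : Type*} [Group G] [Finite G] {A D H K M Q S T V : Subgroup G} {a b s t x y : G}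
  {p q r : ℕ}

theorem exists_ord_mul (hp : p.Prime) (hq : q.Prime) (hne : p ≠ q) (hx : p ∣ orderOf x)
    (hy : q ∣ orderOf y) (c : x * y = y * x) : ∃ z : G, orderOf z = p * q := by
  obtain ⟨_, ⟨i, rfl⟩, h1⟩ := H27.exists_orderOf_of_dvd hx
  obtain ⟨_, ⟨j, rfl⟩, h2⟩ := H27.exists_orderOf_of_dvd hy
  refine ⟨x ^ i * y ^ j, ?_⟩
  rw [← h1, ← h2]
  exact (Commute.zpow_zpow c i j).orderOf_mul_eq_mul_orderOf_of_coprime (by
    rw [h1, h2]; exact (Nat.coprime_primes hp hq).2 hne)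

theorem exists_prime_ord (h : x ≠ 1) : ∃ p, p.Prime ∧ p ∣ orderOf x :=
  Nat.exists_prime_and_dvd (by rwa [Ne, orderOf_eq_one_iff])

theorem cit_of_ord (h : ∀ p, p.Prime → p ≠ 2 → ∀ x : G, orderOf x ≠ 2 * p) : CIT G := fun t ht =>
  piGrp_iff_forall.2 fun x hx p hp hd => by_contra fun e => by
    obtain ⟨z, hz⟩ := exists_ord_mul Nat.prime_two hp (Ne.symm e) (x := t) (by rw [ht]) hd
      (mem_cen1.1 hx).symm
    exact h p hp e z hz

theorem exists_abelem_nml (hs : Sol K) (h1 : K ≠ ⊥) :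
    ∃ p V, p.Prime ∧ p ∣ #K ∧ Abelem p V ∧ V ≠ ⊥ ∧ V ⊴ K := by
  obtain ⟨p, hp, h⟩ := hs.exists_pcore_ne_bot h1
  have h2 := pcore_pi {p} K
  refine ⟨p, _, hp, (h2.dvd h).trans (card_dvd (pcore_le _ _)), abelem_Ohm_center p O[{p}](K),
    h2.Ohm_center_ne_bot h, (Ohm_char _ _).nml_trans (pcore_nml _ _).center⟩

theorem exists_ord_of_semiReg (hV : Sol V) (h1 : V ≠ ⊥) (hn : K ≤ N(V)) (hr : SemiReg V K)
    (hs : Sol K) (hq : q.Prime) (hr' : r.Prime) (hne : q ≠ r) (h2 : q ∣ #K) (h3 : r ∣ #K)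
    (hK : PiGrp {q, r} K) : ∃ z : G, orderOf z = q * r := by
  obtain ⟨p, W, hp, hd, hW, W1, hn'⟩ := exists_abelem_nml hs fun e => hq.not_dvd_one (by
    simpa [e] using h2)
  wlog e : p = q generalizing q r
  · rw [mul_comm]
    exact this hr' hq hne.symm h3 h2 (by rwa [Set.pair_comm]) ((hK p hp hd).resolve_left e)
  subst e
  obtain ⟨y, hy, yo⟩ := exists_elt_of_prime_dvd hr' h3
  have hc := hW.card_of_cyc hp (H27.cyc_of_ab_semiReg hW.ab (hn'.le.trans hn) h1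
    (hr.mono_right hn'.le)) W1
  have hle : W ⊔ ⟪y⟫ ≤ K := sup_le hn'.le (zpowers_le.2 hy)
  have h4 : #(W ⊔ ⟪y⟫) = p * r := by
    rw [card_sup_of_inf (zpowers_le.2 (hn'.nrm hy)) (Cop.inf (by
      rw [Cop, hc, card_zpowers', yo]; exact (Nat.coprime_primes hp hr').2 hne)), hc,
      card_zpowers', yo]
  obtain ⟨z, -, -, hz⟩ := (regular_pq_group_cyclic hp hr' h4 h1 hV (hle.trans hn)
    (hr.mono_right hle)).exists_gen
  exact ⟨z, hz.trans h4⟩

/-- a solvable group has no three pairwise non-adjacent primes -/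
theorem not_sol_of_coclique (hp : p.Prime) (hq : q.Prime) (hr : r.Prime) (n1 : p ≠ q) (n2 : p ≠ r)
    (n3 : q ≠ r) (d1 : p ∣ #H) (d2 : q ∣ #H) (d3 : r ∣ #H) (e1 : ∀ x : G, orderOf x ≠ p * q)
    (e2 : ∀ x : G, orderOf x ≠ p * r) (e3 : ∀ x : G, orderOf x ≠ q * r) : ¬ Sol H := by
  intro hs
  obtain ⟨L, hL⟩ := Hall_exists {p, q, r} hs
  have hs' := hs.mono hL.le
  obtain ⟨s, V, hs, hd, hV, V1, hn⟩ := exists_abelem_nml hs' fun e => hp.not_dvd_one (by
    simpa [e] using hL.dvd_card hp (by simp) d1)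
  wlog e : s = p generalizing p q r
  · rcases (hL.pi s hs hd).resolve_left e with e | e
    · exact this hq hp hr n1.symm n3 n2 d2 d1 d3 (by rwa [mul_comm]) e3 e2
        (by rwa [Set.insert_comm]) e
    · exact this hr hq hp n3.symm n2.symm n1.symm d3 d2 d1 (by rwa [mul_comm]) (by rwa [mul_comm])
        (by rwa [mul_comm]) (by convert hL using 1; ext; simp; tauto) e
  subst e
  obtain ⟨K, hK⟩ := Hall_exists {q, r} hs'
  refine (exists_ord_of_semiReg hV.ab.sol V1 (hK.le.trans hn.nrm)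
    (semiReg_iff.2 fun x hx x1 y hy c => by_contra fun y1 => ?_) (hs'.mono hK.le) hq hr n3
    (hK.dvd_card hq (by simp) (hL.dvd_card hq (by simp) d2))
    (hK.dvd_card hr (by simp) (hL.dvd_card hr (by simp) d3)) hK.pi).elim e3
  obtain ⟨a, ha, h1⟩ := exists_prime_ord x1
  obtain ⟨b, hb, h2⟩ := exists_prime_ord y1
  obtain rfl : b = s := (hV.pGrp hs).piElt hy b hb h2
  rcases hK.pi.piElt hx a ha h1 with rfl | rfl
  · exact (exists_ord_mul hb ha n1 h2 h1 c).elim e1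
  · exact (exists_ord_mul hb ha n2 h2 h1 c).elim e2

theorem sol_of_odd (h : Odd #K) : Sol K := odd_order_solvable h

theorem sol_of_nrm_syl (hS : Syl 2 S ⊤) (hle : S ≤ Q) (hQ : Sol Q) (hn : N(Q) = ⊤) :
    Group.IsSolvable G :=
  sol_top.1 (sol_of_quo hn.ge hQ (sol_of_odd (odd_iff_p'.2
    ((piGrp_quo_iff hn.ge).2 (hS.relIndex_of_le hle)))))

theorem sol_of_uniq (hS : Syl 2 S ⊤) (u : ∀ s ∈ S, Invo s → ∀ t ∈ S, Invo t → s = t)
    (hc : ∀ t : G, Invo t → Sol C[t]) : Group.IsSolvable G := by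
  by_cases h1 : S = ⊥
  · exact sol_of_nrm_syl hS le_rfl hS.pi.sol (by rw [h1]; exact nrm_bot)
  obtain ⟨t, -, ht⟩ := exists_invo_of_ne hS.pi h1
  have h2 : ¬ R1.Rank2 G := fun ⟨x, y, x1, y1, hne, x2, y2, c⟩ => by
    obtain ⟨g, -, hg⟩ := hS.syl_Jsub (pGrp_pair x2 y2 ((e2_of_sq x2).mul (e2_of_sq y2) c)) le_top
    have := u _ (hg (conj_mem_cj.2 (mem_sup_right (mem_zpowers x))))
      ((invo_of x2 x1).conj g) _ (hg (conj_mem_cj.2 (mem_pair x2))) ((invo_of y2 y1).conj g)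
    exact hne (by simpa using this)
  refine sol_top.1 (((sol_of_odd (odd_iff_p'.2 BS.pi_oddCore)).sup (hc t ht)
    (le_top.trans (nml_top_iff.2 BS.normal_oddCore).nrm)).mono fun g _ => ?_)
  obtain ⟨o, ho, c, hc, rfl⟩ := BS.exists_oddCore_mul h2 ht g
  exact mul_mem_sup ho hc

theorem CIT.ti_sol (h : CIT G) (hT : TI2 G) : Group.IsSolvable G ∨ IsZT G := by
  obtain ⟨S, hS⟩ := exists_syl 2 (⊤ : Subgroup G)
  rcases h.ti_cases hT hS with e | e | e
  · exact Or.inl (sol_of_nrm_syl hS le_rfl hS.pi.sol e)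
  · exact Or.inl (sol_of_uniq hS e fun t ht => (h t ht).sol)
  · exact Or.inr e

/-- an extension of degree two of `PSL₂(p)` splits -/
theorem exists_invo_out {F : Type*} [Field F] [Fintype F] (hp : (Fintype.card F).Prime)
    (h4 : 4 ≤ Fintype.card F) (hM : M.index = 2) (e : M ≃* PSL(2, F)) : ∃ t, Invo t ∧ t ∉ M := by
  haveI hn : M.Normal := normal_of_index_eq_two hM
  haveI := Fact.mk hp
  haveI := H10.isSimpleGroup_PSL_fin (F := F) le_rfl fun _ => by rwa [Nat.card_eq_fintype_card]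
  obtain ⟨g, hg⟩ : ∃ g, g ∉ M := by
    by_contra! h
    simp [(eq_top_iff' M).2 h] at hM
  let c : G →* MulAut PSL(2, F) := (MulAut.congr e).toMonoidHom.comp MulAut.conjNormal
  have hc : ∀ m : M, c m = MulAut.conj (e m) := fun m => by
    ext x
    simp [c, MulAut.congr, MulAut.conjNormal_val]
  obtain ⟨γ, σ, hγ⟩ := H10.aut_PSL2 (c g)
  obtain rfl : σ = 1 := by
    have := (H10.ringAut_cyclic_card (F := F) (f := 1) (pow_one _).symm).2
    exact (Nat.card_eq_one_iff_unique.1 this).1.elim _ _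
  have hd := H10.gl_det_ne_zero γ
  let w := H10.gl2 0 1 (-(γ 0 0 * γ 1 1 - γ 0 1 * γ 1 0)) 0 (by simpa using hd)
  obtain ⟨s, hs⟩ : γ⁻¹ * w ∈ (SpecialLinearGroup.toGL : SL(2, F) →* GL (Fin 2) F).range := by
    rw [H10.range_toGL_eq_ker_det, MonoidHom.mem_ker, map_mul, map_inv, inv_mul_eq_one]
    ext
    simp [w, H10.gl2, det_fin_two]
  have h1 : c (g * e.symm (H10.slQ _ F s)) = H10.pDiag w := by
    rw [map_mul, hγ, map_one, mul_one, ← mul_inv_cancel_left γ w, map_mul, ← hs, H10.pDiag_toGL, hc,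
      e.apply_symm_apply]
  have h2 : g * e.symm (H10.slQ _ F s) ∉ M := fun h => hg ((mul_mem_cancel_right (Subtype.prop _)).1 h)
  generalize g * e.symm (H10.slQ _ F s) = t at h1 h2
  have h3 : c (t * t) = 1 := by
    rw [map_mul, h1, ← map_mul]
    refine H10.pDiag_eq_one_of_scalar (c := -(γ 0 0 * γ 1 1 - γ 0 1 * γ 1 0)) ?_
    ext i j
    fin_cases i <;> fin_cases j <;> simp [w, H10.gl2]
  have h5 : t * t ∈ M := sq t ▸ sq_mem_of_index_two hM t
  have h6 : e ⟨_, h5⟩ ∈ center PSL(2, F) := mem_center_iff.2 fun x => by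
    have := DFunLike.congr_fun ((hc ⟨_, h5⟩).symm.trans h3) x
    exact (mul_inv_eq_iff_eq_mul.1 this).symm
  refine ⟨t, invo_of ?_ fun e => h2 (e ▸ one_mem _), h2⟩
  rcases (inferInstance : (center PSL(2, F)).Normal).eq_bot_or_eq_top with e' | e'
  · simpa [e'] using h6
  · exact absurd (IsSimpleGroup.comm_iff_isSolvable.1 fun a b =>
      (mem_center_iff.1 (e' ▸ mem_top b) a)) (H10.not_isSolvable_PSL2 (by
        rwa [Nat.card_eq_fintype_card]))

/-- `M₁₀` -/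
def M10 (G : Type*) [Group G] : Prop :=
  (∃ x : G, orderOf x = 8) ∧ ∃ M : Subgroup G, M.index = 2 ∧ ∃ (F : Type) (_ : Field F)
    (_ : Fintype F), Fintype.card F = 9 ∧ Nonempty (M ≃* PSL(2, F))

theorem Two.small' (w : Two D T A) (h : CIT G) (hO : O[{2}]((⊤ : Subgroup G)) = ⊥)
    (hr : #(D ⊓ A) ≤ 2) : L2q G ∨ M10 G := by
  have e := Wz_eq w.r.ab
  have h1 := one_lt_card (w.l.U_ne h)
  have h2 := w.l.cardW h
  have h3 := w.l.cardT h
  rw [e] at h1 h2 h3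
  rw [show #(D ⊓ A) = 2 by omega] at h2 h3
  obtain ⟨S, hS, hle⟩ := w.l.syl.pi.exists_syl le_top
  obtain ⟨m, hm⟩ := hS.pi.card
  have h4 : 3 ≤ m := (Nat.pow_le_pow_iff_right one_lt_two).1 (by
    have := card_le hle; omega)
  obtain ⟨m, rfl⟩ := Nat.exists_eq_add_of_le' (show 1 ≤ m by omega)
  have DS := w.l.DT.trans hle
  have k4 : IsKleinFour D := H3.klein_iff.2 ⟨h2, fun x hx => (sq x).trans (w.r.sq hx)⟩
  obtain ⟨a, b, c⟩ := (H3.maxCl_of_cen_sq Nat.prime_two hm DS h2 fun x hx =>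
    w.l.par.cen_le h w.l.par.pg w.l.par.ne le_rfl ⟨cents_norm le_rfl hx.2, hx.2⟩).mc (by omega)
  rcases c.cases with c | c | ⟨b, c⟩
  · refine Or.inl (h.l2q_of_dh hO (dh_of_mcd c) hS ?_)
    have := Nat.pow_le_pow_right two_pos c.two_le
    rw [c.card_a]; omega
  · refine absurd ?_ (H3.klein_not_cyc k4)
    refine (cyc_zpowers (a ^ 2 ^ (m - 1))).mono fun x hx => ?_
    by_cases x1 : x = 1
    · exact x1 ▸ one_mem _
    · exact c.eq_z_of_sq (DS hx) (H3.klein_sq k4 hx) x1 ▸ mem_zpowers _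
  · obtain ⟨a', ha, a1⟩ := w.l.exists_out
    obtain ⟨x, hx, x3, x1, -⟩ := w.l.three' h ha a1
    obtain ⟨M, hM, ⟨F, _, _, h7, hF, ⟨e⟩⟩, hi⟩ := h.l2q_of_sd hO c hS DS k4 ⟨x, hx, od_of_cube x3,
      fun e => x1 (le_nrm T (w.l.DT (w.l.par.cen_le h w.l.par.pg w.l.par.ne le_rfl ⟨hx, e⟩)))⟩
    obtain ⟨y, -, hy⟩ := H27.exists_orderOf_of_dvd (x := a) (n := 2 ^ 3) (by
      rw [c.ord]; exact pow_dvd_pow 2 c.three_le)
    refine Or.inr ⟨⟨y, hy⟩, M, hM, F, _, _, hF.resolve_right fun hp => ?_, ⟨e⟩⟩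
    obtain ⟨t, ht, t1⟩ := exists_invo_out hp.1 (by omega) hM e
    exact t1 (hi t ht)

theorem pcore_two : O[{2}]((⊤ : Subgroup G)) = pCore 2 G := by
  rw [pcore_top, piCore_singleton Nat.prime_two]

instance pCore_two_normal : (pCore 2 G).Normal := pcore_two (G := G) ▸ nml_top_iff.1 (pcore_nml _ _)

theorem pGrp_pCore : PGrp 2 (pCore 2 G) := pcore_two (G := G) ▸ pcore_pi _ _

noncomputable def quoTop (K : Subgroup G) [K.Normal] : G ⧸ K ≃* Quo K :=
  ((QuotientGroup.congr K (K.subgroupOf ⊤) topEquiv.symm (by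
    ext x; exact mem_map_equiv)).trans (quotEquiv (nml_top_iff.2 ‹_›).nrm)).trans
    ((MulEquiv.subgroupCongr (top_quo K)).trans topEquiv)

/-- the structure of CIT groups -/
theorem CIT.struct (h : CIT G) : Group.IsSolvable G ∨ IsZT (G ⧸ pCore 2 G) ∨
    (pCore 2 G = ⊥ ∧ (L2q G ∨ M10 G ∨ L34 G)) := by
  by_cases hO : O[{2}]((⊤ : Subgroup G)) = ⊥
  · rcases h.ti_or_two hO with e | ⟨D, T, A, w⟩
    · refine (h.ti_sol e).imp_right fun e => Or.inl (e.of_equiv ?_)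
      exact (QuotientGroup.quotientMulEquivOfEq (pcore_two.symm.trans hO)).trans
        QuotientGroup.quotientBot
    refine Or.inr (Or.inr ⟨pcore_two.symm.trans hO, ?_⟩)
    rcases le_or_gt #(D ⊓ A) 2 with hr | hr
    · exact (w.small' h hO hr).imp_right Or.inl
    · exact Or.inr (Or.inr ⟨F4, _, _, card_F4, Pl.psl3 ⟨w, h, w.card_U h hr, w.syl h hO hr⟩⟩)
  · have e := h.ti_quo' hO
    rw [pcore_two] at e
    refine ((h.quo pGrp_pCore).ti_sol e).imp (fun e => ?_) fun e => Or.inl (e.of_equiv (quoTop _))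
    exact sol_top.1 (sol_of_quo (nml_top_iff.2 inferInstance).nrm pGrp_pCore.sol (by rwa [top_quo, sol_top]))

end Cfsg.Agent.H21
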