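import Mathlib
import Cfsg.Agent.H4.Transfer2
import Cfsg.Agent.FT.Quo
import Cfsg.Agent.FT.Nil
import Cfsg.Agent.S3224
/-! Sylow `2`-subgroups of transitive groups of fixity two. -/
set_option autoImplicit false
set_option linter.unusedSectionVars false
set_option linter.unusedVariables false
set_option linter.style.haveILetI false
namespace Cfsg.Agent.H21.F2
open Subgroup MulAction Cfsg.Agent.FT
open scoped Pointwise

variable {G Ω : Type*} [Group G] [Finite G] [Finite Ω] [MulAction G Ω] {S : Subgroup G}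

theorem ncard_modEq {p : ℕ} (hp : p.Prime) {x : G} (hx : x ^ p = 1) (A : Set Ω) (hA : ∀ a ∈ A, x • a ∈ A) :
    A.ncard ≡ (A ∩ fixedBy Ω x).ncard [MOD p] := by
  haveI := Fact.mk hp
  have hA' : ∀ g ∈ zpowers x, ∀ a ∈ A, g • a ∈ A := by
    intro g hg
    obtain ⟨n, rfl⟩ := (mem_powers_iff_mem_zpowers.2 hg)
    induction n with
    | zero => intro a ha; simpa using ha
    | succ n ih =>
      intro a ha
      show x ^ (n + 1) • a ∈ A
      rw [pow_succ', mul_smul]
      exact hA _ (ih ⟨n, by simp⟩ a ha)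
  let X : SubMulAction (zpowers x) Ω := ⟨A, fun g _ ha => hA' g g.2 _ ha⟩
  have hP : IsPGroup p (zpowers x) := fun g => ⟨1, by
    obtain ⟨_, n, rfl⟩ := g
    refine Subtype.ext ?_
    show (x ^ n) ^ p ^ 1 = 1
    rw [pow_one, ← zpow_natCast, ← zpow_mul, mul_comm, zpow_mul, zpow_natCast, hx, one_zpow]⟩
  have := hP.card_modEq_card_fixedPoints X
  refine this.trans ?_
  rw [show Nat.card (fixedPoints (zpowers x) X) = (A ∩ fixedBy Ω x).ncard from Nat.card_congr
    { toFun := fun a => ⟨a.1.1, a.1.2, congrArg Subtype.val (a.2 ⟨x, mem_zpowers x⟩)⟩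
      invFun := fun a => ⟨⟨a.1, a.2.1⟩, fun g => Subtype.ext
        ((show zpowers x ≤ stabilizer G a.1 from zpowers_le.2 a.2.2) g.2)⟩
      left_inv := fun _ => rfl
      right_inv := fun _ => rfl }]

/-- fixity at most two -/
def Fx (G Ω : Type*) [Group G] [MulAction G Ω] : Prop := ∀ g : G, g ≠ 1 → Nat.card (fixedBy Ω g) ≤ 2

theorem Fx.three (h : Fx G Ω) {g : G} (h1 : g ≠ 1) {a b c : Ω} (hab : a ≠ b) (ha : g • a = a) (hb : g • b = b)
    (hc : g • c = c) : c = a ∨ c = b := by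
  by_contra hx
  rw [not_or] at hx
  have h2 : ({a, b, c} : Set Ω).ncard = 3 :=
    Set.ncard_eq_three.2 ⟨a, b, c, hab, Ne.symm hx.1, Ne.symm hx.2, rfl⟩
  have h3 : ({a, b, c} : Set Ω) ⊆ fixedBy Ω g := by
    rintro z (rfl | rfl | rfl) <;> assumption
  have := (Set.ncard_le_ncard h3 (Set.toFinite _)).trans (h g h1)
  omega

theorem relIndex_two {X : Subgroup G} {a b : Ω} {s : G} (hs : s ∈ X) (hab : a ≠ b) (h1 : s • a = b) (hX : X ≤ S)
    (h : ∀ g ∈ X, g • a = a ∨ g • a = b) : (S ⊓ stabilizer G a).relIndex X = 2 := by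
  refine Subgroup.relIindex_eq_two_iff'.2 ⟨s⁻¹, inv_mem hs, fun g hg => ?_⟩
  rcases h g hg with e | e
  · refine Or.inr ⟨⟨hX hg, e⟩, fun e1 => hab ?_⟩
    have : (s⁻¹ * g) • a = a := e1.2
    rw [mul_smul, e, inv_smul_eq_iff, h1] at this
    exact this
  · refine Or.inl ⟨⟨hX (mul_mem (inv_mem hs) hg), ?_⟩, fun e1 => hab ?_⟩
    · show (s⁻¹ * g) • a = a
      rw [mul_smul, e, inv_smul_eq_iff, h1]
    · exact (show g • a = a from e1.2).symm.trans e

theorem Fx.pair (h : Fx G Ω) (hS : PGrp 2 S) {a : Ω} (h1 : ¬ S ≤ stabilizer G a) :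
    ∃ b s, a ≠ b ∧ s ∈ S ∧ s ∈ N(S ⊓ stabilizer G a) ∧ s • a = b ∧ ∀ t ∈ S ⊓ stabilizer G a, t • b = b := by
  obtain ⟨s, ⟨h2, h3⟩, h4⟩ := SetLike.exists_of_lt (hS.lt_subnorm (R := S ⊓ stabilizer G a)
    (lt_of_le_of_ne inf_le_left fun e => h1 (e ▸ inf_le_right)))
  refine ⟨s • a, s, fun e => h4 ⟨h2, e.symm⟩, h2, h3, rfl, fun t ht => ?_⟩
  have : (s⁻¹ * t * s) • a = a := (conj_mem' h3 ht).2
  rw [mul_smul, mul_smul, inv_smul_eq_iff] at this
  exact this

theorem Fx.cen4 (h : Fx G Ω) (hS : PGrp 2 S) {a : Ω} (h1 : ¬ S ≤ stabilizer G a) {t : G} (h2 : t ≠ 1)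
    (ht : t ∈ S ⊓ stabilizer G a) (h3 : #(S ⊓ stabilizer G a) = 2) :
    (∃ n : ℕ, Nonempty (S ≃* DihedralGroup n)) ∨ Cfsg.IsQuasiDihedral S ∨ Nat.card S = 4 := by
  obtain ⟨b, s, hab, hs, hn, hsa, hb⟩ := h.pair hS h1
  have ho : orderOf t = 2 := by
    have := (S ⊓ stabilizer G a).orderOf_dvd_natCard ht
    rw [h3] at this
    exact ((Nat.dvd_prime Nat.prime_two).1 this).resolve_left fun e => h2 (orderOf_eq_one_iff.1 e)
  have hT : S ⊓ stabilizer G a = ⟪t⟫ :=
    (eq_of_le_of_card_ge (zpowers_le.2 ht) (by rw [h3, Nat.card_zpowers, ho])).symm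
  have hu : ∀ u ∈ S ⊓ stabilizer G a, u ≠ 1 → u = t := by
    intro u hu h4
    classical
    rw [hT, mem_zpowers_iff_mem_range_orderOf, ho] at hu
    simp only [Finset.mem_image, Finset.mem_range] at hu
    obtain ⟨k, hk, rfl⟩ := hu
    interval_cases k
    · simp at h4
    · simp
  have hst : s ∈ C[t] := by
    have := hu _ (conj_mem hn ht) (fun e => h2 (by simpa using e))
    exact mem_cen1.2 (by rw [← mul_inv_eq_iff_eq_mul]; exact this)
  have a1 := relIndex_two (S := S) (X := S ⊓ C[t]) ⟨hs, hst⟩ hab hsa inf_le_left fun g hg =>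
    h.three h2 hab ht.2 (hb t ht) (by rw [← mul_smul, ← mem_cen1.1 hg.2, mul_smul, show t • a = a from ht.2])
  have a2 : S ⊓ stabilizer G a ≤ S ⊓ C[t] := le_inf inf_le_left (hT ▸ zpowers_le_cen1 t)
  have a3 := card_mul_relIndex a2
  rw [a1, h3] at a3
  refine S3224.result ((pGrp_iff Nat.prime_two).1 hS) ⟨t, ht.1⟩ (by rw [← orderOf_coe]; exact ho) ?_
  have a4 : centralizer ({⟨t, ht.1⟩} : Set S) = (S ⊓ C[t]).subgroupOf S := by
    ext x
    rw [mem_subgroupOf, mem_centralizer_singleton_iff, mem_inf, mem_cen1, Subtype.ext_iff]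
    simp
  rw [a4, Nat.card_congr (subgroupOfEquivOfLe inf_le_left).toEquiv, ← a3]

theorem klein {s z : G} (h4 : #S = 4) (hs : s ∈ S) (hz : z ∈ S) (os : orderOf s = 2) (oz : orderOf z = 2)
    (hne : s ≠ z) : Nonempty (S ≃* DihedralGroup 2) := by
  have hc : ¬ IsCyclic S := by
    intro hc
    classical
    haveI := Fintype.ofFinite S
    have := IsCyclic.card_orderOf_eq_totient (α := S) (d := 2) (by rw [← Nat.card_eq_fintype_card, h4]; norm_num)
    have h2 : 1 < (Finset.univ.filter fun a : S => orderOf a = 2).card :=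
      Finset.one_lt_card.2 ⟨⟨s, hs⟩, Finset.mem_filter.2 ⟨Finset.mem_univ _, by rw [← orderOf_coe]; exact os⟩,
        ⟨z, hz⟩, Finset.mem_filter.2 ⟨Finset.mem_univ _, by rw [← orderOf_coe]; exact oz⟩,
        fun e => hne (congrArg Subtype.val e)⟩
    rw [this, Nat.totient_two] at h2
    omega
  haveI : IsKleinFour S := ⟨h4, (not_isCyclic_iff_exponent_eq_prime Nat.prime_two h4).1 hc⟩
  exact IsKleinFour.nonempty_mulEquiv

theorem exists_invo {T : Subgroup G} (hT : PGrp 2 T) (h : T ≠ ⊥) : ∃ t ∈ T, orderOf t = 2 := by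
  haveI : Fact (Nat.Prime 2) := ⟨Nat.prime_two⟩
  obtain ⟨k, hk⟩ := PiNat.exists_pow hT Nat.card_pos.ne'
  obtain ⟨t, ht⟩ := exists_prime_orderOf_dvd_card' (G := T) 2 (by
    rw [hk]
    refine dvd_pow_self 2 ?_
    rintro rfl
    exact h (card_eq_one.1 hk))
  exact ⟨t, t.2, by rw [orderOf_coe, ht]⟩

theorem card_orbit (S : Subgroup G) (a : Ω) : Nat.card (orbit S a) = (S ⊓ stabilizer G a).relIndex S := by
  rw [inf_relIndex_left, relIndex, show (stabilizer G a).subgroupOf S = stabilizer S a from rfl, index_stabilizer]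
  rfl

theorem Fx.frob [FaithfulSMul G Ω] [IsPretransitive G Ω] (h : Fx G Ω) (hS : Syl 2 S ⊤) {a b : Ω} {s : G}
    (hab : a ≠ b) (hs : s ∈ S) (hsa : s • a = b) (hb : ∀ t ∈ S ⊓ stabilizer G a, t • b = b)
    (h0 : S ⊓ stabilizer G a ≠ ⊥) (h2 : (S ⊓ stabilizer G a).relIndex S = 2)
    (hr : ∀ g ∈ S, ∀ c : Ω, g • c = c → g • a = a) :
    ∃ N : Subgroup G, N.Normal ∧ N.index = 2 ∧ ∃ H : Subgroup N, Cfsg.IsFrobeniusComplement H := by
  set T := S ⊓ stabilizer G a with hT
  obtain ⟨φ, hφ⟩ := H4.exists_sign_hom h2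
  have hodd : Odd S.index := by
    have := hS.not_dvd Nat.prime_two
    rw [relIndex_top_right] at this
    exact Nat.odd_iff.2 (Nat.two_dvd_ne_zero.1 this)
  have hV : ∀ u : S, MonoidHom.transfer φ u = φ u := by
    intro u
    have key := H4.transfer_eq_pow_of_forall φ (u : G) (φ u) (fun k t ht => by
      rw [← map_pow]
      have e : φ ⟨_, ht⟩ = 1 ↔ φ (u ^ k) = 1 := by
        rw [hφ, hφ, mem_subgroupOf, mem_subgroupOf]
        constructor
        · intro e
          have e1 : (t⁻¹ * u.1 ^ k * t) • a = a := e.2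
          rw [mul_smul, mul_smul, inv_smul_eq_iff] at e1
          exact ⟨(u ^ k).2, hr _ (u ^ k).2 _ e1⟩
        · intro e
          have e1 : (u.1 ^ k) • a = a := e.2
          refine ⟨ht, hr _ ht (t⁻¹ • a) ?_⟩
          rw [mul_smul, mul_smul, smul_inv_smul, e1]
      rcases Int.units_eq_one_or (φ ⟨_, ht⟩) with a1 | a1 <;> rcases Int.units_eq_one_or (φ (u ^ k)) with a2 | a2
      · rw [a1, a2]
      · rw [e.1 a1] at a2; exact absurd a2 (by decide)
      · rw [e.2 a2] at a1; exact absurd a1 (by decide)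
      · rw [a1, a2])
    rw [key]
    rcases Int.units_eq_one_or (φ u) with e | e
    · rw [e, one_pow]
    · rw [e, hodd.neg_one_pow]
  set N := (MonoidHom.transfer φ).ker with hN
  have hNS : ∀ u ∈ S, u ∈ N ↔ u ∈ T := fun u hu => by
    rw [hN, MonoidHom.mem_ker, hV ⟨u, hu⟩, hφ, mem_subgroupOf]
  have hsN : s ∉ N := fun e => hab ((show s • a = a from ((hNS s hs).1 e).2).symm.trans hsa)
  have hi : N.index = 2 := H4.index_ker_eq_two hsN
  have hTN : T ≤ N := fun u hu => (hNS u hu.1).2 hu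
  have hNn : N ⊴ ⊤ := nml_top_iff.2 inferInstance
  have hTS : Syl 2 T N := by
    have := hS.inf_nml hNn
    rwa [show S ⊓ N = T from le_antisymm (fun u hu => (hNS u hu.1).1 hu.2) (le_inf inf_le_left hTN)] at this
  set A : Set Ω := orbit N a with hA
  have hAo : ¬ 2 ∣ A.ncard := by
    have a1 : A.ncard = (N ⊓ stabilizer G a).relIndex N := card_orbit N a
    rw [a1]
    exact fun e => hTS.relIndex_of_le (le_inf hTN inf_le_right) 2 Nat.prime_two e rfl
  have hAi : ∀ g ∈ N, ∀ c ∈ A, g • c ∈ A := fun g hg c hc => mem_orbit_of_mem_orbit (⟨g, hg⟩ : N) hc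
  obtain ⟨t, ht, ot⟩ := exists_invo hTS.pi h0
  have ht1 : t ≠ 1 := by rintro rfl; simp at ot
  have hbA : b ∉ A := by
    intro e
    have a1 := ncard_modEq Nat.prime_two (ot ▸ pow_orderOf_eq_one t) A (hAi t (hTN ht))
    have a2 : A ∩ fixedBy Ω t = {a, b} := by
      refine Set.Subset.antisymm (fun c hc => h.three ht1 hab ht.2 (hb t ht) hc.2) ?_
      rintro c (rfl | rfl)
      · exact ⟨mem_orbit_self _, ht.2⟩
      · exact ⟨e, hb t ht⟩
    rw [a2, Set.ncard_pair hab] at a1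
    exact hAo ((Nat.modEq_zero_iff_dvd.1 (a1.trans (by decide))))
  refine ⟨N, inferInstance, hi, (stabilizer G a).subgroupOf N, fun e => ?_, fun e => ?_, fun g hg => ?_⟩
  · have : (⟨t, hTN ht⟩ : N) ∈ (stabilizer G a).subgroupOf N := ht.2
    rw [e, mem_bot] at this
    exact ht1 (congrArg Subtype.val this)
  · refine ht1 (eq_of_smul_eq_smul (α := Ω) fun z => ?_)
    obtain ⟨g, rfl⟩ := exists_smul_eq G a z
    have : (g⁻¹ * t * g) • a = a := subgroupOf_eq_top.1 e (conj_mem' (hNn.nrm (mem_top g)) (hTN ht))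
    rw [mul_smul, mul_smul, inv_smul_eq_iff] at this
    rw [this, one_smul]
  · rw [eq_bot_iff]
    rintro x ⟨x1, x2⟩
    by_contra hx
    have x0 : (x : G) ≠ 1 := fun e => hx (mem_bot.2 (Subtype.ext e))
    have x3 : x.1 • a = a := x1
    have x4 : x.1 • g.1 • a = g.1 • a := by
      have : (g⁻¹ * x * g).1 • a = a := by
        have := mem_pointwise_smul_iff_inv_smul_mem.1 x2
        simpa [mem_subgroupOf] using this
      simp only [coe_mul, coe_inv, mul_smul, inv_smul_eq_iff] at this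
      exact this
    obtain ⟨p, hp, hd⟩ := Nat.exists_prime_and_dvd (show orderOf x.1 ≠ 1 from fun e => x0 (orderOf_eq_one_iff.1 e))
    set y := x.1 ^ (orderOf x.1 / p) with hy
    have oy : orderOf y = p := orderOf_pow_orderOf_div (orderOf_pos _).ne' hd
    have y1 : y ≠ 1 := by
      intro e; rw [e, orderOf_one] at oy; exact hp.one_lt.ne oy
    have yN : y ∈ N := pow_mem x.2 _
    have y3 : y • a = a := (pow_mem (show x.1 ∈ stabilizer G a from x3) _ : y ∈ stabilizer G a)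
    have y4 : y • g.1 • a = g.1 • a :=
      (pow_mem (show x.1 ∈ stabilizer G (g.1 • a) from x4) _ : y ∈ stabilizer G (g.1 • a))
    have hne : a ≠ g.1 • a := fun e => hg e.symm
    have a1 := ncard_modEq hp (oy ▸ pow_orderOf_eq_one y) A (hAi y yN)
    have a2 : A ∩ fixedBy Ω y = {a, g.1 • a} := by
      refine Set.Subset.antisymm (fun c hc => h.three y1 hne y3 y4 hc.2) ?_
      rintro c (rfl | rfl)
      · exact ⟨mem_orbit_self _, y3⟩
      · exact ⟨hAi _ g.2 _ (mem_orbit_self _), y4⟩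
    rw [a2, Set.ncard_pair hne] at a1
    have a3 := ncard_modEq hp (oy ▸ pow_orderOf_eq_one y) (s • A) (by
      rintro _ ⟨c, hc, rfl⟩
      refine ⟨_, hAi _ (conj_mem' (hNn.nrm (mem_top s)) yN) c hc, ?_⟩
      simp only [mul_smul, smul_inv_smul])
    have dj : ∀ c ∈ A, c ∉ s • A := by
      rintro _ ⟨u, rfl⟩ ⟨_, ⟨v, rfl⟩, e⟩
      refine hbA ?_
      have e1 : s • v.1 • a = u.1 • a := e
      have e2 : b = (s * v.1⁻¹ * s⁻¹) • u.1 • a := by
        rw [← e1, ← hsa]; simp only [mul_smul, inv_smul_smul]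
      rw [e2]
      exact hAi _ (conj_mem (hNn.nrm (mem_top s)) (inv_mem v.2)) _ (hAi _ u.2 _ (mem_orbit_self _))
    have a4 : s • A ∩ fixedBy Ω y = ∅ := by
      refine Set.eq_empty_of_forall_notMem fun c hc => ?_
      rcases h.three y1 hne y3 y4 hc.2 with rfl | rfl
      · exact dj _ (mem_orbit_self _) hc.1
      · exact dj _ (hAi _ g.2 _ (mem_orbit_self _)) hc.1
    rw [a4, Set.ncard_empty, Set.ncard_smul_set] at a3
    have a5 : p ∣ 2 := Nat.modEq_zero_iff_dvd.1 (a1.symm.trans a3)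
    obtain rfl := (Nat.prime_dvd_prime_iff_eq hp Nat.prime_two).1 a5
    exact hAo (Nat.modEq_zero_iff_dvd.1 a3)

theorem Fx.main [FaithfulSMul G Ω] [IsPretransitive G Ω] (h : Fx G Ω) (hS : Syl 2 S ⊤) (a : Ω) :
    S ⊓ stabilizer G a = ⊥ ∨
    (((∃ n : ℕ, Nonempty (S ≃* DihedralGroup n)) ∨ Cfsg.IsQuasiDihedral S) ∧
       (Nat.card ↥(S ⊓ stabilizer G a) = 2 ∨ (S ⊓ stabilizer G a).relIndex S = 2)) ∨
    (4 ≤ Nat.card S ∧
       (∃ ω : Ω, Nat.card (orbit S ω) = 2 ∧
          ∀ ω' : Ω, ω' ∉ orbit S ω → Nat.card (orbit S ω') = Nat.card S) ∧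
       ∃ N : Subgroup G, N.Normal ∧ (N.index = 2 ∨ N.index = Nat.card S) ∧
        (∃ H : Subgroup N, Cfsg.IsFrobeniusComplement H)) ∨
    S ≤ stabilizer G a := by
  by_cases h0 : S ⊓ stabilizer G a = ⊥
  · exact Or.inl h0
  by_cases h1 : S ≤ stabilizer G a
  · exact Or.inr (Or.inr (Or.inr h1))
  right
  obtain ⟨b, s, hab, hs, hn, hsa, hb⟩ := h.pair hS.pi h1
  set T := S ⊓ stabilizer G a with hT
  obtain ⟨t, ht, ot⟩ := exists_invo (hS.pi.mono (inf_le_left : T ≤ S)) h0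
  have ht1 : t ≠ 1 := by rintro rfl; simp at ot
  by_cases h2 : ∀ g ∈ S, g • a = a ∨ g • a = b
  · have h3 : T.relIndex S = 2 := relIndex_two hs hab hsa le_rfl h2
    have h4 : #T * T.relIndex S = #S := card_mul_relIndex (inf_le_left : T ≤ S)
    have h5 : 1 < #T := (one_lt_card_iff_ne_bot T).2 h0
    by_cases h6 : ∀ g ∈ S, ∀ c : Ω, g • c = c → g • a = a
    · refine Or.inr (Or.inl ⟨by rw [h3] at h4; omega, ⟨a, by rw [card_orbit, h3], fun c hc => ?_⟩, ?_⟩)
      · rw [card_orbit, show S ⊓ stabilizer G c = ⊥ from ?_, relIndex_bot_left]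
        rw [eq_bot_iff]
        intro g hg
        by_contra e
        have e1 := h6 g hg.1 c hg.2
        rcases h.three (fun e2 => e (mem_bot.2 e2)) hab e1 (hb g ⟨hg.1, e1⟩) hg.2 with rfl | rfl
        · exact hc (mem_orbit_self _)
        · exact hc ⟨⟨s, hs⟩, hsa⟩
      · obtain ⟨N, a1, a2, a3⟩ := h.frob hS hab hs hsa hb h0 h3 h6
        exact ⟨N, a1, Or.inl a2, a3⟩
    · push Not at h6
      obtain ⟨u, hu, c, huc, hua⟩ := h6
      have hub := (h2 u hu).resolve_left hua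
      have hca : c ≠ a := by rintro rfl; exact hua huc
      have hcb : c ≠ b := by
        rintro rfl
        exact hab (smul_left_cancel u (hub.trans huc.symm))
      have hd : ∀ v ∈ T, v • c = c → v = 1 := fun v hv e => by
        by_contra e1
        exact (h.three e1 hab hv.2 (hb v hv) e).elim hca hcb
      have hu1 : u ≠ 1 := by rintro rfl; exact hua (one_smul _ _)
      have hone : ∀ v ∈ S ⊓ stabilizer G c, v ≠ 1 → v = u := by
        intro v hv h7
        have e1 : v • a = b := (h2 v hv.1).resolve_left fun e => h7 (hd v ⟨hv.1, e⟩ hv.2)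
        have := hd (u⁻¹ * v) ⟨S.mul_mem (S.inv_mem hu) hv.1, by
          show (u⁻¹ * v) • a = a
          rw [mul_smul, e1, inv_smul_eq_iff, hub]⟩ (by
          rw [mul_smul, show v • c = c from hv.2, inv_smul_eq_iff, huc])
        exact (inv_mul_eq_one.1 this).symm
      have hc2 : #(S ⊓ stabilizer G c) = 2 := by
        refine (Nat.card_eq_two_iff' (1 : ↥(S ⊓ stabilizer G c))).2 ⟨⟨u, hu, huc⟩, fun e => hu1 (congrArg Subtype.val e),
          fun v hv => Subtype.ext (hone v v.2 fun e => hv (Subtype.ext e))⟩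
      have ou : orderOf u = 2 := by
        have := (S ⊓ stabilizer G c).orderOf_dvd_natCard ⟨hu, huc⟩
        rw [hc2] at this
        exact ((Nat.dvd_prime Nat.prime_two).1 this).resolve_left fun e => hu1 (orderOf_eq_one_iff.1 e)
      refine Or.inl ⟨?_, Or.inr h3⟩
      rcases h.cen4 hS.pi (fun e => ht1 (hd t ht (e ht.1))) hu1 ⟨hu, huc⟩ hc2 with e | e | e
      · exact Or.inl e
      · exact Or.inr e
      · exact Or.inl ⟨2, klein e hu ht.1 ou ot fun e => hua (e ▸ ht.2)⟩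
  · left
    have hR : ∀ g ∈ S ⊓ N(T), g • a = a ∨ g • a = b := fun g hg => by
      refine h.three ht1 hab ht.2 (hb t ht) ?_
      have : (g⁻¹ * t * g) • a = a := (conj_mem' hg.2 ht).2
      rw [mul_smul, mul_smul, inv_smul_eq_iff] at this
      exact this
    have hlt : S ⊓ N(T) < S := lt_of_le_of_ne inf_le_left fun e => h2 fun g hg => hR g (e.symm ▸ hg)
    have hTR : T ≤ S ⊓ N(T) := le_inf inf_le_left (le_nrm T)
    obtain ⟨g, ⟨g1, g2⟩, g3⟩ := SetLike.exists_of_lt (hS.pi.lt_subnorm hlt)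
    have g4 : g • a ≠ a := fun e => g3 (hTR ⟨g1, e⟩)
    have g5 : g • a ≠ b := fun e => g3 (by
      have : s⁻¹ * g ∈ T := ⟨S.mul_mem (S.inv_mem hs) g1, by
        show (s⁻¹ * g) • a = a
        rw [mul_smul, e, inv_smul_eq_iff, hsa]⟩
      simpa using mul_mem (show s ∈ S ⊓ N(T) from ⟨hs, hn⟩) (hTR this))
    have hd : ∀ v ∈ T, v • g • a = g • a → v = 1 := fun v hv e => by
      by_contra e1
      exact (h.three e1 hab hv.2 (hb v hv) e).elim g4 g5
    have hf : ∀ v ∈ T, (g * v * g⁻¹) • g • a = g • a := fun v hv => by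
      rw [mul_smul, mul_smul, inv_smul_smul, show v • a = a from hv.2]
    have hm : ∀ v ∈ T, v ≠ 1 → (g * v * g⁻¹) • a = b := fun v hv h7 =>
      (hR _ (conj_mem g2 (hTR hv))).resolve_left fun e => h7 (by
        simpa using hd _ ⟨(conj_mem g2 (hTR hv)).1, e⟩ (hf v hv))
    have hc2 : #T = 2 := by
      refine (Nat.card_eq_two_iff' (1 : T)).2 ⟨⟨t, ht⟩, fun e => ht1 (congrArg Subtype.val e), fun v hv => Subtype.ext ?_⟩
      have v1 : v.1 ≠ 1 := fun e => hv (Subtype.ext e)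
      have := hd ((g * t * g⁻¹)⁻¹ * (g * v.1 * g⁻¹))
        ⟨S.mul_mem (S.inv_mem (conj_mem g2 (hTR ht)).1) (conj_mem g2 (hTR v.2)).1, by
          show ((g * t * g⁻¹)⁻¹ * (g * v.1 * g⁻¹)) • a = a
          rw [mul_smul, hm _ v.2 v1, inv_smul_eq_iff, hm t ht ht1]⟩ (by
          rw [mul_smul, hf _ v.2, inv_smul_eq_iff, hf t ht])
      have := inv_mul_eq_one.1 this
      simpa using this.symm
    refine ⟨?_, Or.inl hc2⟩
    rcases h.cen4 hS.pi h1 ht1 ht hc2 with e | e | e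
    · exact Or.inl e
    · exact Or.inr e
    · exfalso
      have a1 := card_mul_relIndex hTR
      rw [relIndex_two (S := S) (X := S ⊓ N(T)) ⟨hs, hn⟩ hab hsa inf_le_left hR, hc2] at a1
      have a2 := card_lt hlt
      omega

end Cfsg.Agent.H21.F2
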