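import Cfsg.Agent.L1.Se0
import Cfsg.Agent.S3331
import Cfsg.Agent.S3333
import Cfsg.Agent.S3805
import Cfsg.Agent.H8.ZStar

/-! The cited theorems for the `3`-local characterization of `S₈`. -/

set_option autoImplicit false
set_option linter.unusedVariables false

namespace Cfsg.Agent.L1Se

open Subgroup Equiv

universe u

theorem t33 : T33.{u} := fun X _ _ P S h1 h2 h3 e h4 => S3333.result P S h1 h2 h3 e h4

theorem t31 : T31.{u} := fun Y _ _ X h1 h2 => S3331.result X h1 h2

theorem t05 : T05.{u} := fun X _ _ T h1 h2 h3 h4 h5 h6 => by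
  have hc : IsMulCommutative (T : Subgroup X) := le_centralizer_iff_isMulCommutative.1 h3.ge
  have c1 : Nat.card ((T : Subgroup X).subgroupOf (normalizer ((T : Subgroup X) : Set X))) = 9 :=
    (Nat.card_congr (subgroupOfEquivOfLe le_normalizer).toEquiv).trans h1
  have c2 := card_eq_card_quotient_mul_card_subgroup
    ((T : Subgroup X).subgroupOf (normalizer ((T : Subgroup X) : Set X)))
  rw [h4, c1] at c2
  have c3 : Nat.card (normalizer ((T : Subgroup X) : Set X) ⧸
      (T : Subgroup X).subgroupOf (normalizer ((T : Subgroup X) : Set X))) = 4 := by omega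
  have : Nontrivial (normalizer ((T : Subgroup X) : Set X) ⧸
      (T : Subgroup X).subgroupOf (normalizer ((T : Subgroup X) : Set X))) :=
    Finite.one_lt_card_iff_nontrivial.1 (by omega)
  refine normalizer_eq_top_iff.1 (S3805.result T ⟨hc, h2⟩ h1 h3 ⟨c3, ?_⟩ h6)
  refine (Monoid.exponent_eq_prime_iff Nat.prime_two).2 fun q hq => orderOf_eq_prime ?_ hq
  obtain ⟨g, rfl⟩ := QuotientGroup.mk_surjective q
  rw [← QuotientGroup.mk_pow, QuotientGroup.eq_one_iff]
  exact h5 g g.2

theorem zs : ZS.{u} := fun X _ _ t h1 h2 =>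
  ⟨oddCore X, inferInstance, H2.odd_card_oddCore, fun g => H8.zstar ⟨h1, fun g e => h2 g e.symm⟩ g⟩

end Cfsg.Agent.L1Se
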